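import Mathlib.Tactic
import Mathlib.Algebra.Field.Basic

/-!
# Plane identities for lifts with collinear three-point constituents

`p, φ` are signed degrees on a horizontal line (offset `u`), `α, β` on a vertical line
(offsets `Y, Z`).
-/

set_option autoImplicit false

namespace CfsgLib.OrderDegrees.StrongCore

variable {K : Type*} [Field K] [CharZero K]

/-- Three weighted points on a line. -/
theorem three_point {x y e f M : K} (hy : y ≠ 0) (h1 : x * e + y * f = 0)
    (h2 : x * e ^ 2 + y * f ^ 2 = M) : x * (x + y) * e ^ 2 = M * y := by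
  linear_combination y * h2 + (x * e - y * f) * h1

omit [CharZero K] in
/-- Three weighted points with vanishing second moment coincide. -/
theorem three_point_zero {x y e f : K} (hy : y ≠ 0) (hx : x ≠ 0) (hxy : x + y ≠ 0)
    (h1 : x * e + y * f = 0) (h2 : x * e ^ 2 + y * f ^ 2 = 0) : e = 0 ∧ f = 0 := by
  have he : x * (x + y) * e ^ 2 = 0 := by linear_combination y * h2 + (x * e - y * f) * h1
  have he0 : e = 0 := by simpa [hx, hxy] using he
  refine ⟨he0, ?_⟩
  rw [he0, mul_zero, zero_add] at h1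
  exact (mul_eq_zero.1 h1).resolve_left hy

/-- The vertical offset of the first point. -/
theorem offset_first {p φ α β u Y : K} (hp : p ≠ 0) (hφ : φ ≠ 0) (hα : α ≠ 0) (hu : u ≠ 0)
    (hab : α + β = φ) (hY : α * φ * Y ^ 2 = 3 * β) (hh : p * φ * u ^ 2 = 3 * (p + φ))
    (hV : p * α * (2 * u ^ 2 - 2 * u * Y + Y ^ 2) = 3 * (p + α)) : u = 2 * Y := by
  have h : (p * α * φ * u) * (u - 2 * Y) = 0 := by
    linear_combination φ * hV - α * hh - p * hY + (-3 * p) * hab
  exact sub_eq_zero.1 ((mul_eq_zero.1 h).resolve_left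
    (mul_ne_zero (mul_ne_zero (mul_ne_zero hp hα) hφ) hu))

/-- The weights after the offset is known. -/
theorem weight_relation {p φ α β u Y : K} (hY : α * φ * Y ^ 2 = 3 * β)
    (hh : p * φ * u ^ 2 = 3 * (p + φ)) (huY : u = 2 * Y) : α * (p + φ) = 4 * β * p := by
  subst huY
  linear_combination (4 / 3 : K) * p * hY - (α / 3) * hh

/-- A vertical point joined to a horizontal point with opposite signs in the wide form. -/
theorem weight_wide {π φ α h Y : K} (hπ : π ≠ 0) (hY : α * φ * Y ^ 2 = 3 * (φ - α))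
    (hh : π * φ * h ^ 2 = 3 * (π + φ))
    (hQ : -α * π * (9 * h ^ 2 + 3 * Y ^ 2) = 27 * (π - α)) : α = -2 * φ := by
  have : π * (α + 2 * φ) = 0 := by
    linear_combination (-1 / 18 : K) * φ * hQ - (α / 2) * hh - (π / 6) * hY
  linear_combination (mul_eq_zero.1 this).resolve_left hπ

/-- A vertical point joined to a horizontal point in the skew form. -/
theorem offset_skew {π φ α h Y : K} (hπ : π ≠ 0) (hφ : φ ≠ 0) (hα : α ≠ 0) (hh0 : h ≠ 0)
    (hY : α * φ * Y ^ 2 = 3 * (φ - α))
    (hh : π * φ * h ^ 2 = 3 * (π + φ))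
    (hQ : π * α * (2 * h ^ 2 + 2 * h * Y + Y ^ 2) = 3 * (π + α)) : h = -2 * Y := by
  have : (π * α * φ * h) * (h + 2 * Y) = 0 := by
    linear_combination φ * hQ - α * hh - π * hY
  have := (mul_eq_zero.1 this).resolve_left (mul_ne_zero (mul_ne_zero (mul_ne_zero hπ hα) hφ) hh0)
  linear_combination this

/-- First vertical point, first horizontal point in the wide form. -/
theorem wide_first_first {p φ u a b : K} (hp : p ≠ 0) (hu : u ≠ 0)
    (h2 : p * (2 * a ^ 2 - 2 * a * b + b ^ 2) = 3 * (p + 1))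
    (h3 : p * (u * (3 * a - b)) = -6)
    (hQ : p * (3 * a ^ 2 + b ^ 2) = 9 * (p + 1)) (hbil : p * (u * (6 * a + b)) = -18)
    (hφ : φ = -7 * p) : False := by
  have ha : 9 * (p * u) * a = -24 := by linear_combination h3 + hbil
  have hb : (p * u) * b = -2 := by linear_combination (-2 / 3 : K) * h3 + (1 / 3 : K) * hbil
  have h0 : p * (3 * a ^ 2 - 6 * a * b + 2 * b ^ 2) = 0 := by linear_combination 3 * h2 - hQ
  have h0' := (mul_eq_zero.1 h0).resolve_left hp
  have hz : ((-8 : K) / 3) ^ 2 * 3 - 6 * (-8 / 3) * (-2) + 2 * (-2) ^ 2 = 0 := by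
    have ha' : (p * u) * a = -8 / 3 := by linear_combination ha / 9
    rw [← ha', ← hb]
    linear_combination (p * u) ^ 2 * h0'
  norm_num at hz

/-- Second vertical point, second horizontal point in the wide form. -/
theorem wide_second_second {p φ u a b : K} (hp : p ≠ 0) (hu : u ≠ 0) (hφp : 3 * φ = -11 * p)
    (hh : p * φ * u ^ 2 = 3 * (p + φ))
    (h2 : p * (2 * a ^ 2 - 2 * a * b + b ^ 2) = 3 * (p + 1))
    (h3 : p * (u * (3 * a - b)) = -6)
    (hQ : 2 * φ * (9 * (a + u) ^ 2 + 3 * (b + 3 / 4 * u) ^ 2) = 27 * (1 + 2 * φ))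
    (hbil : 9 * (a + u) * (a + 11 / 8 * u) + 3 * (b + 3 / 4 * u) * b = 27) : False := by
  have hφ : φ = -11 / 3 * p := by linear_combination hφp / 3
  subst hφ
  have hu2 : p * u ^ 2 = 24 / 11 := by
    have : p * (p * u ^ 2 - 24 / 11) = 0 := by linear_combination (-3 / 11 : K) * hh
    linear_combination (mul_eq_zero.1 this).resolve_left hp
  have hb : b = 3 * a + 11 / 4 * u := by
    have : p * u * (b - 3 * a - 11 / 4 * u) = 0 := by
      linear_combination -h3 - (11 / 4 : K) * hu2
    linear_combination (mul_eq_zero.1 this).resolve_left (mul_ne_zero hp hu)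
  subst hb
  have e1 : 5 * a ^ 2 + 11 * a * u + 99 / 16 * u ^ 2 = 3 := by
    have : p * (5 * a ^ 2 + 11 * a * u + 99 / 16 * u ^ 2 - 3) = 0 := by
      linear_combination h2 - (11 / 8 : K) * hu2
    linear_combination (mul_eq_zero.1 this).resolve_left hp
  have e2 : 3 * a ^ 2 + 57 / 8 * (a * u) + 77 / 16 * u ^ 2 = 0 := by
    linear_combination 3 * e1 - (1 / 3 : K) * hbil
  have e3 : 3 * a ^ 2 + 6 * a * u + 11 / 4 * u ^ 2 = 0 := by
    have : p * (3 * a ^ 2 + 6 * a * u + 11 / 4 * u ^ 2) = 0 := by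
      linear_combination 3 * p * e1 + (1 / 22 : K) * hQ - (9 / 16 : K) * hu2
    exact (mul_eq_zero.1 this).resolve_left hp
  have ha : a = -11 / 6 * u := by
    have : u * (a + 11 / 6 * u) = 0 := by linear_combination (8 / 9 : K) * (e2 - e3)
    linear_combination (mul_eq_zero.1 this).resolve_left hu
  subst ha
  have : u ^ 2 = 0 := by linear_combination (6 / 11 : K) * e3
  exact hu (by simpa using this)

/-- First vertical point and second horizontal point in the skew form. -/
theorem skew_first_second {p φ u a b : K} (hp : p ≠ 0) (hu : u ≠ 0) (hφ : φ = -2 * p)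
    (hh : p * φ * u ^ 2 = 3 * (p + φ))
    (h2 : p * (2 * a ^ 2 - 2 * a * b + b ^ 2) = 3 * (p + 1))
    (h3 : p * (u * (3 * a - b)) = -6)
    (hQ : φ * (9 * (a + u) ^ 2 + 3 * b ^ 2) = 27 * (1 + φ)) : (34 - 3 * p) ^ 2 = 1029 := by
  subst hφ
  have hu2 : p * u ^ 2 = 3 / 2 := by
    have : p * (p * u ^ 2 - 3 / 2) = 0 := by linear_combination (-1 / 2 : K) * hh
    linear_combination (mul_eq_zero.1 this).resolve_left hp
  have hb : b = 3 * a + 4 * u := by
    have : p * u * (b - 3 * a - 4 * u) = 0 := by linear_combination -h3 - 4 * hu2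
    linear_combination (mul_eq_zero.1 this).resolve_left (mul_ne_zero hp hu)
  subst hb
  set X := p * (u * a) with hX
  -- with `X = p u a` both relations become polynomial in `p` and `X`
  have e1 : 5 * X ^ 2 + 24 * X + 63 / 2 - 9 / 2 * p = 0 := by
    have h := congrArg (fun t => t * (p * u ^ 2)) h2
    linear_combination h - (16 * X + 21 - 3 * p + 16 * (p * u ^ 2)) * hu2
  have e2 : 4 * X ^ 2 + 15 * X + 33 / 2 - 9 / 2 * p = 0 := by
    have h := congrArg (fun t => t * (p * u ^ 2)) hQ
    linear_combination (-1 / 18 : K) * h -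
      (10 * X + 11 - 3 * p + 19 / 3 * (p * u ^ 2)) * hu2
  have hXv : X = -(3 * p + 29) / 14 := by
    linear_combination (4 / 21 : K) * e1 - (5 / 21 : K) * e2
  rw [hXv] at e1
  linear_combination (196 / 5 : K) * e1

/-- The surviving configuration. -/
theorem skew_second_first {p φ α β u a b : K} (hp : p ≠ 0) (hu : u ≠ 0) (hα : α ≠ 0)
    (hφab : α + β = φ) (hab : α = β) (hw : α * (p + φ) = 4 * β * p)
    (hh : p * φ * u ^ 2 = 3 * (p + φ))
    (h2 : p * (2 * a ^ 2 - 2 * a * b + b ^ 2) = 3 * (p + 1))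
    (h3 : p * (u * (3 * a - b)) = -6)
    (hQ : φ * (9 * (a + u) ^ 2 + 3 * b ^ 2) = 27 * (1 + φ)) :
    (p = 2 ∧ a = 0) ∨ 3 * p = 2 := by
  subst hab
  have hφ : φ = 3 * p := by
    have : α * (φ - 3 * p) = 0 := by linear_combination hw
    linear_combination (mul_eq_zero.1 this).resolve_left hα
  subst hφ
  have hu2 : p * u ^ 2 = 4 := by
    have : p * (p * u ^ 2 - 4) = 0 := by linear_combination (1 / 3 : K) * hh
    linear_combination (mul_eq_zero.1 this).resolve_left hp
  have hb : b = 3 * a + 3 / 2 * u := by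
    have : p * u * (b - 3 * a - 3 / 2 * u) = 0 := by linear_combination -h3 - (3 / 2 : K) * hu2
    linear_combination (mul_eq_zero.1 this).resolve_left (mul_ne_zero hp hu)
  subst hb
  have e1 : p * (5 * a ^ 2 + 6 * a * u) = 3 * p - 6 := by
    linear_combination h2 - (9 / 4 : K) * hu2
  have e2 : p * (12 * a ^ 2 + 15 * a * u) = 9 * p - 18 := by
    linear_combination (1 / 9 : K) * hQ - (21 / 4 : K) * hu2
  have h0 : p * (a * (a + u)) = 0 := by linear_combination e1 - (1 / 3 : K) * e2
  rcases mul_eq_zero.1 ((mul_eq_zero.1 h0).resolve_left hp) with ha | ha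
  · left
    subst ha
    refine ⟨?_, rfl⟩
    linear_combination (-1 / 3 : K) * e1
  · right
    have : a = -u := by linear_combination ha
    subst this
    linear_combination -e1 - hu2

end CfsgLib.OrderDegrees.StrongCore
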