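import Mathlib.GroupTheory.SemidirectProduct
import Mathlib.Data.ZMod.Basic
import Mathlib.Data.Fintype.Prod
import Mathlib.Data.Fintype.Perm
import Mathlib.GroupTheory.SpecificGroups.Dihedral
import Mathlib.Tactic.Ring
import Mathlib.Tactic.Abel
import Mathlib.Algebra.BigOperators.Group.Finset.Basic
import Mathlib.Algebra.Group.MinimalAxioms

/-!
# A model of `3³ : S₄` inside the alternating group of degree nine

The monomial group of order 24 is stored through packed tables.
-/

set_option autoImplicit false

namespace CfsgLib.OrderDegrees.StrongCore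

/-- Read an entry of a packed table. -/
def entry (tab bits i : ℕ) : ℕ := (tab >>> (bits * i)) % 2 ^ bits

/-- Multiplication table of the monomial group. -/
def mulTab : ℕ := 2769037062898265841170003444042190540192385009296052761851014982822307035326834201247885266930357362237470068404712579492052199674479755121418139020487000167710933822289648420900486841928272717146906891158144030827660276925194325672230763938209671524369373477206683016041594535899025079593642375377896814746088052151868475021308977223511992601780836849518425028765134059951072142697257473588750787431211089414775010742908244640610036008281624047837765683467934963880079173703436516379462697842607751445055064594942689275496002061057485928137949217579153348306734062699986751253286269179588840929654139644885518858470990745632550219862276413308058283829310062715898255727264057922877365868174272902588571628920096673102032224274202214400460086030081443873262281080159275880883421888675636963922596804773987186079851781397373162612731063874465400868281273649585031200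

/-- Inverse table. -/
def invTab : ℕ := 982224389888604432679445472994232352

/-- Source coordinate of each coordinate. -/
def srcTab : ℕ := 2123880558394737131071355432080308918438180

/-- Signs of each coordinate. -/
def signTab : ℕ := 4229452138157009356656

/-- The odd permutations. -/
def oddTab : ℕ := 15732720

/-- The action on the six signed axes. -/
def perm6Tab : ℕ := 226304192863871455519051746664859276243890789325556544739293449998410904613604630776691027437282971071972297958974096681124152968

/-- The action on the eight signed diagonals. -/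
def perm8Tab : ℕ := 16799314435455236590101580859314650618330655688582053027954712132507367670882053156767513107671929145868424254064507789796280757844422140654076160602168546080005648413279880

/-- Phases on the six axes. -/
def phase6Tab : ℕ := 142578696842843941611826435657857260937112612960912671580162788266195238767140443084423740004822879617189649010162668107192097295199974537644105025820477213624504942390673408

/-- Phases on the eight diagonals. -/
def phase8Tab : ℕ := 439784974593652459515293260408756388571845484696706429138872290088744231906133249291496705768614364655655388136348139948638628151454937649223136000273003990704021111146390618944770732316391755866548269613730229653848447063905271808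

/-- The monomial group of order 24. -/
structure Mon where
  /-- index -/
  i : Fin 24
  deriving DecidableEq

namespace Mon

instance : Fintype Mon :=
  Fintype.ofEquiv (Fin 24) ⟨Mon.mk, Mon.i, fun _ => rfl, fun _ => rfl⟩

instance : Mul Mon := ⟨fun a b => ⟨Fin.ofNat 24 (entry mulTab 5 (24 * a.i.val + b.i.val))⟩⟩

instance : One Mon := ⟨⟨0⟩⟩

instance : Inv Mon := ⟨fun a => ⟨Fin.ofNat 24 (entry invTab 5 a.i.val)⟩⟩

theorem mul_assoc' : ∀ a b c : Mon, a * b * c = a * (b * c) := by decide +kernel

theorem one_mul' : ∀ a : Mon, 1 * a = a := by decide +kernel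

theorem inv_mul' : ∀ a : Mon, a⁻¹ * a = 1 := by decide +kernel

instance : Group Mon := Group.ofLeftAxioms mul_assoc' one_mul' inv_mul'

/-- The coordinate which is moved to `j`. -/
def src (r : Mon) (j : Fin 3) : Fin 3 := Fin.ofNat 3 (entry srcTab 2 (3 * r.i.val + j.val))

/-- The sign of coordinate `j`. -/
def neg (r : Mon) (j : Fin 3) : Bool := entry signTab 1 (3 * r.i.val + j.val) == 1

/-- Odd permutation part. -/
def odd (r : Mon) : Bool := entry oddTab 1 r.i.val == 1

end Mon

/-- The module. -/
abbrev Vec : Type := ZMod 3 × ZMod 3 × ZMod 3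

/-- A coordinate. -/
def coord (v : Vec) : Fin 3 → ZMod 3
  | 0 => v.1
  | 1 => v.2.1
  | 2 => v.2.2

/-- The monomial action. -/
def act (r : Mon) (v : Vec) : Vec :=
  let f := fun j : Fin 3 => if r.neg j then -coord v (r.src j) else coord v (r.src j)
  (f 0, f 1, f 2)

theorem act_mul : ∀ (a b : Mon) (v : Vec), act (a * b) v = act a (act b v) := by decide +kernel

theorem act_add : ∀ (a : Mon) (v w : Vec), act a (v + w) = act a v + act a w := by decide +kernel

theorem act_one : ∀ v : Vec, act 1 v = v := by decide +kernel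

/-- The translations. -/
abbrev V : Type := Multiplicative Vec

/-- The action as automorphisms. -/
def aut : Mon →* MulAut V where
  toFun a :=
    { toFun := fun v => Multiplicative.ofAdd (act a v.toAdd)
      invFun := fun v => Multiplicative.ofAdd (act a⁻¹ v.toAdd)
      left_inv := fun v => by simp [← act_mul, act_one]
      right_inv := fun v => by simp [← act_mul, act_one]
      map_mul' := fun v w => by simp [act_add, ofAdd_add] }
  map_one' := MulEquiv.ext fun v => Multiplicative.toAdd.injective (act_one v.toAdd)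
  map_mul' a b := MulEquiv.ext fun v => Multiplicative.toAdd.injective (act_mul a b v.toAdd)

/-- The group of order 648. -/
abbrev K0 : Type := V ⋊[aut] Mon

instance : Fintype K0 :=
  Fintype.ofEquiv (V × Mon)
    { toFun := fun p => ⟨p.1, p.2⟩
      invFun := fun n => (n.left, n.right)
      left_inv := fun _ => rfl
      right_inv := fun _ => rfl }

/-- `a + b ω + i (c + d ω)`. -/
structure Z12 where
  /-- real integral part -/
  a : ℤ
  /-- coefficient of `ω` -/
  b : ℤ
  /-- coefficient of `i` -/
  c : ℤ
  /-- coefficient of `i ω` -/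
  d : ℤ
  deriving DecidableEq

namespace Z12

instance : Zero Z12 := ⟨⟨0, 0, 0, 0⟩⟩

instance : Add Z12 := ⟨fun x y => ⟨x.a + y.a, x.b + y.b, x.c + y.c, x.d + y.d⟩⟩

instance : Neg Z12 := ⟨fun x => ⟨-x.a, -x.b, -x.c, -x.d⟩⟩

instance : Sub Z12 := ⟨fun x y => ⟨x.a - y.a, x.b - y.b, x.c - y.c, x.d - y.d⟩⟩

theorem ext' {x y : Z12} (ha : x.a = y.a) (hb : x.b = y.b) (hc : x.c = y.c) (hd : x.d = y.d) :
    x = y := by cases x; cases y; simp_all

instance : AddCommMonoid Z12 where
  add_assoc x y z := ext' (add_assoc _ _ _) (add_assoc _ _ _) (add_assoc _ _ _) (add_assoc _ _ _)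
  zero_add x := ext' (zero_add _) (zero_add _) (zero_add _) (zero_add _)
  add_zero x := ext' (add_zero _) (add_zero _) (add_zero _) (add_zero _)
  add_comm x y := ext' (add_comm _ _) (add_comm _ _) (add_comm _ _) (add_comm _ _)
  nsmul := nsmulRec

/-- Product of two Eisenstein integers, first part. -/
def eA (a b c d : ℤ) : ℤ := a * c - b * d

/-- Product of two Eisenstein integers, second part. -/
def eB (a b c d : ℤ) : ℤ := a * d + b * c - b * d

instance : Mul Z12 := ⟨fun x y =>
  ⟨eA x.a x.b y.a y.b - eA x.c x.d y.c y.d, eB x.a x.b y.a y.b - eB x.c x.d y.c y.d,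
    eA x.a x.b y.c y.d + eA x.c x.d y.a y.b, eB x.a x.b y.c y.d + eB x.c x.d y.a y.b⟩⟩

/-- Complex conjugation. -/
def bar (x : Z12) : Z12 := ⟨x.a - x.b, -x.b, -(x.c - x.d), x.d⟩

/-- An integer. -/
def ofInt (n : ℤ) : Z12 := ⟨n, 0, 0, 0⟩

/-- The twelfth roots of unity. -/
def zeta (k : ZMod 12) : Z12 :=
  match k.val with
  | 0 => ⟨1, 0, 0, 0⟩
  | 1 => ⟨0, 0, 0, -1⟩
  | 2 => ⟨1, 1, 0, 0⟩
  | 3 => ⟨0, 0, 1, 0⟩
  | 4 => ⟨0, 1, 0, 0⟩
  | 5 => ⟨0, 0, 1, 1⟩
  | 6 => ⟨-1, 0, 0, 0⟩
  | 7 => ⟨0, 0, 0, 1⟩
  | 8 => ⟨-1, -1, 0, 0⟩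
  | 9 => ⟨0, 0, -1, 0⟩
  | 10 => ⟨0, -1, 0, 0⟩
  | _ => ⟨0, 0, -1, -1⟩

theorem zeta_add : ∀ k l : ZMod 12, zeta (k + l) = zeta k * zeta l := by decide +kernel

end Z12

/-- The six signed axes and the eight signed diagonals. -/
def pt6 : Fin 6 → Vec
  | 0 => (1, 0, 0)
  | 1 => (2, 0, 0)
  | 2 => (0, 1, 0)
  | 3 => (0, 2, 0)
  | 4 => (0, 0, 1)
  | 5 => (0, 0, 2)

/-- The eight signed diagonals. -/
def pt8 : Fin 8 → Vec
  | 0 => (1, 1, 1)
  | 1 => (1, 1, 2)
  | 2 => (1, 2, 1)
  | 3 => (1, 2, 2)
  | 4 => (2, 1, 1)
  | 5 => (2, 1, 2)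
  | 6 => (2, 2, 1)
  | 7 => (2, 2, 2)

/-- Permutation of the axes. -/
def sig6 (r : Mon) (i : Fin 6) : Fin 6 := Fin.ofNat 6 (entry perm6Tab 3 (6 * r.i.val + i.val))

/-- Permutation of the diagonals. -/
def sig8 (r : Mon) (i : Fin 8) : Fin 8 := Fin.ofNat 8 (entry perm8Tab 3 (8 * r.i.val + i.val))

/-- The three cocycles on the axes. -/
def w6 (m : Fin 3) (r : Mon) (i : Fin 6) : ZMod 12 :=
  match m with
  | 0 => 0
  | 1 => if r.odd then 6 else 0
  | 2 => (entry phase6Tab 4 (6 * r.i.val + i.val) : ℕ)

/-- The two cocycles on the diagonals. -/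
def w8 (m : Fin 2) (r : Mon) (i : Fin 8) : ZMod 12 :=
  match m with
  | 0 => 0
  | 1 => (entry phase8Tab 4 (8 * r.i.val + i.val) : ℕ)

/-- The pairing, as a phase. -/
def pair (x y : Vec) : ZMod 12 :=
  ((4 * (x.1 * y.1 + x.2.1 * y.2.1 + x.2.2 * y.2.2).val : ℕ) : ZMod 12)

theorem pair_add : ∀ x y z : Vec, pair x (y + z) = pair x y + pair x z := by decide +kernel

theorem pt6_act : ∀ (r : Mon) (i : Fin 6) (v : Vec),
    pair (pt6 (sig6 r i)) (act r v) = pair (pt6 i) v := by decide +kernel

theorem pt8_act : ∀ (r : Mon) (i : Fin 8) (v : Vec),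
    pair (pt8 (sig8 r i)) (act r v) = pair (pt8 i) v := by decide +kernel

theorem sig6_mul : ∀ (r s : Mon) (i : Fin 6), sig6 (r * s) i = sig6 r (sig6 s i) := by
  decide +kernel

theorem sig8_mul : ∀ (r s : Mon) (i : Fin 8), sig8 (r * s) i = sig8 r (sig8 s i) := by
  decide +kernel

theorem sig6_one : ∀ i : Fin 6, sig6 1 i = i := by decide +kernel

theorem sig8_one : ∀ i : Fin 8, sig8 1 i = i := by decide +kernel

theorem w6_mul : ∀ (m : Fin 3) (r s : Mon) (i : Fin 6),
    w6 m (r * s) i = w6 m r (sig6 s i) + w6 m s i := by decide +kernel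

theorem w8_mul : ∀ (m : Fin 2) (r s : Mon) (i : Fin 8),
    w8 m (r * s) i = w8 m r (sig8 s i) + w8 m s i := by decide +kernel

/-- Phase of a group element at an axis. -/
def ph6 (m : Fin 3) (n : K0) (i : Fin 6) : ZMod 12 :=
  pair (pt6 (sig6 n.right i)) n.left.toAdd + w6 m n.right i

/-- Phase of a group element at a diagonal. -/
def ph8 (m : Fin 2) (n : K0) (i : Fin 8) : ZMod 12 :=
  pair (pt8 (sig8 n.right i)) n.left.toAdd + w8 m n.right i

theorem ph6_mul (m : Fin 3) (a b : K0) (i : Fin 6) :
    ph6 m (a * b) i = ph6 m a (sig6 b.right i) + ph6 m b i := by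
  have h : (a * b).left.toAdd = a.left.toAdd + act a.right b.left.toAdd := rfl
  rw [ph6, ph6, ph6, h, SemidirectProduct.mul_right, pair_add, sig6_mul, pt6_act, w6_mul]
  abel

theorem ph8_mul (m : Fin 2) (a b : K0) (i : Fin 8) :
    ph8 m (a * b) i = ph8 m a (sig8 b.right i) + ph8 m b i := by
  have h : (a * b).left.toAdd = a.left.toAdd + act a.right b.left.toAdd := rfl
  rw [ph8, ph8, ph8, h, SemidirectProduct.mul_right, pair_add, sig8_mul, pt8_act, w8_mul]
  abel

/-- Monomial character values. -/
def chi6 (m : Fin 3) (n : K0) : Z12 :=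
  ∑ i : Fin 6, if sig6 n.right i = i then Z12.zeta (ph6 m n i) else 0

/-- Monomial character values. -/
def chi8 (m : Fin 2) (n : K0) : Z12 :=
  ∑ i : Fin 8, if sig8 n.right i = i then Z12.zeta (ph8 m n i) else 0

/-- The projection onto the complement. -/
def proj : K0 →* K0 := SemidirectProduct.inr.comp SemidirectProduct.rightHom

/-- Difference from the inflation, axes. -/
def dl6 (m : Fin 3) (n : K0) : Z12 := chi6 m (proj n) - chi6 m n

/-- Difference from the inflation, diagonals. -/
def dl8 (m : Fin 2) (n : K0) : Z12 := chi8 m (proj n) - chi8 m n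

/-- The five generalized characters. -/
def vfun : Fin 5 → K0 → Z12
  | 0, n => dl6 0 n
  | 1, n => dl6 1 n
  | 2, n => dl6 2 n
  | 3, n => dl8 1 n - dl6 2 n
  | 4, n => dl8 0 n - dl6 2 n

/-- Gram matrix. -/
def gram : Fin 5 → Fin 5 → ℤ
  | 2, 3 | 3, 2 | 2, 4 | 4, 2 => -1
  | i, j => if i = j then (if i = 2 ∨ i = 3 then 3 else 4) else 1

/-- Some power of the element is a non-trivial translation. -/
def Special (n : K0) : Prop := ∃ k : Fin 5, (n ^ k.val).right = 1 ∧ n ^ k.val ≠ 1

instance : DecidablePred Special := fun n =>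
  inferInstanceAs (Decidable (∃ k : Fin 5, (n ^ k.val).right = 1 ∧ n ^ k.val ≠ 1))

/-- The inner products with the trivial character. -/
def mone : Fin 5 → ℤ
  | 0 => 1
  | 4 => 1
  | _ => 0

/-- A double sign change. -/
def dd : K0 := ⟨1, ⟨1⟩⟩

/-- The other class of involutions. -/
def rr : K0 := ⟨1, ⟨6⟩⟩

/-- The class of an involution. -/
def cls (n : K0) : Bool := n.right.odd

/-- The representative of a class. -/
def rep : Bool → K0
  | false => dd
  | true => rr

/-- The involutions of a class. -/
def invs (k : Bool) : Finset K0 :=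
  Finset.univ.filter fun x => x * x = 1 ∧ x ≠ 1 ∧ cls x = k

/-- The involution pairs with weights. -/
def pairSum (i : Fin 5) (k l : Bool) : Z12 :=
  ∑ x ∈ invs k, ∑ y ∈ invs l, vfun i (x * y)

/-- The moments. -/
def moments : Fin 5 → ℤ × ℤ × ℤ
  | 0 => (3, 3, 6)
  | 1 => (3, -3, 6)
  | 2 => (0, 0, 3)
  | 3 => (3, 0, 0)
  | 4 => (3, 0, 9)

/-- The translation along the first axis. -/
def tdd : K0 := ⟨Multiplicative.ofAdd (1, 0, 0), 1⟩

/-- A translation commuting with `rr`. -/
def trr : K0 := ⟨Multiplicative.ofAdd (0, 1, 1), 1⟩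

/-- The translation attached to a class. -/
def tr : Bool → K0
  | false => tdd
  | true => trr

end CfsgLib.OrderDegrees.StrongCore
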