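import Cfsg.Agent.Lib.OrderDegrees.StrongCore.Algebra
import Cfsg.Agent.Lib.OrderDegrees.StrongCore.Model
import Cfsg.Agent.Lib.OrderDegrees.NineD8.Geometry
import Mathlib.Data.Complex.Basic
import Mathlib.Algebra.BigOperators.Ring.Finset

/-!
# Five generalized characters of norm three and four: a constituent of degree two
-/

set_option autoImplicit false
set_option maxHeartbeats 1600000

namespace CfsgLib.OrderDegrees.StrongCore

open Finset
open CfsgLib.OrderDegrees.NineD8 (adjForm moment_identities)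

variable {ι : Type*} [Fintype ι] [DecidableEq ι]

/-- The coefficient vectors of the five lifts, with two point coordinates for every irreducible
character. -/
structure Config (ι : Type*) [Fintype ι] [DecidableEq ι] where
  /-- coefficients -/
  m : Fin 5 → ι → ℤ
  /-- degrees -/
  deg : ι → ℤ
  /-- the trivial character -/
  o : ι
  /-- first coordinate -/
  A : ι → ℂ
  /-- second coordinate -/
  B : ι → ℂ
  deg_pos : ∀ k, 0 < deg k
  deg_o : deg o = 1
  m_gram : ∀ i j, ∑ k, m i k * m j k = gram i j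
  m_o : ∀ i, m i o = mone i
  deg_sum : ∀ i, ∑ k, m i k * deg k = 0
  A_sum : ∀ i, ∑ k, (m i k * deg k : ℂ) * A k = 0
  B_sum : ∀ i, ∑ k, (m i k * deg k : ℂ) * B k = 0
  AA_sum : ∀ i, ∑ k, (m i k * deg k : ℂ) * A k ^ 2 = (moments i).1
  AB_sum : ∀ i, ∑ k, (m i k * deg k : ℂ) * A k * B k = (moments i).2.1
  BB_sum : ∀ i, ∑ k, (m i k * deg k : ℂ) * B k ^ 2 = (moments i).2.2

namespace Config

variable (T : Config ι)

/-- The support. -/
def supp (i : Fin 5) : Finset ι := univ.filter fun k => T.m i k ≠ 0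

theorem mem_supp {i : Fin 5} {k : ι} : k ∈ T.supp i ↔ T.m i k ≠ 0 := by simp [supp]

theorem gram_diag_le : ∀ i : Fin 5, gram i i ≤ 4 := by decide

theorem unit_value (i : Fin 5) (k : ι) : T.m i k = 0 ∨ T.m i k = 1 ∨ T.m i k = -1 := by
  have hg := T.m_gram i i
  rw [← add_sum_erase _ _ (mem_univ k)] at hg
  have hrest : ∀ l ∈ univ.erase k, 0 ≤ T.m i l * T.m i l := fun l _ => mul_self_nonneg _
  have h0 := sum_nonneg hrest
  have h4' := gram_diag_le i
  by_contra hne
  push Not at hne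
  have h4 : 4 ≤ T.m i k * T.m i k := by
    obtain ⟨h1, h2, h3⟩ := hne
    rcases lt_or_ge (T.m i k) 0 with h | h
    · nlinarith [show T.m i k ≤ -2 by omega]
    · nlinarith [show 2 ≤ T.m i k by omega]
  have hz : ∀ l ∈ univ.erase k, T.m i l = 0 := fun l hl =>
    mul_self_eq_zero.1 ((sum_eq_zero_iff_of_nonneg hrest).1 (by omega) l hl)
  have hd := T.deg_sum i
  rw [← add_sum_erase _ _ (mem_univ k), sum_eq_zero fun l hl => by rw [hz l hl, zero_mul],
    add_zero] at hd
  rcases mul_eq_zero.1 hd with h | h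
  · exact hne.1 h
  · exact (T.deg_pos k).ne' h

theorem sq_eq_one {i : Fin 5} {k : ι} (h : T.m i k ≠ 0) : T.m i k * T.m i k = 1 := by
  rcases T.unit_value i k with e | e | e
  · exact absurd e h
  · rw [e]; rfl
  · rw [e]; rfl

theorem card_supp (i : Fin 5) : ((T.supp i).card : ℤ) = gram i i := by
  have hg := T.m_gram i i
  rw [← sum_filter_of_ne (p := fun k => T.m i k ≠ 0) (fun k _ h e => h (by simp [e]))] at hg
  rw [sum_congr rfl (fun k hk => T.sq_eq_one (mem_filter.1 hk).2), sum_const] at hg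
  simp only [nsmul_eq_mul, mul_one] at hg
  exact hg

/-- The third constituent of a lift of norm three. -/
theorem exists_third (i : Fin 5) (hi : gram i i = 3) {a b : ι} (ha : T.m i a ≠ 0) (hb : T.m i b ≠ 0)
    (hab : a ≠ b) :
    ∃ l, T.m i l ≠ 0 ∧ l ≠ a ∧ l ≠ b ∧ (∀ k, T.m i k ≠ 0 → k = a ∨ k = b ∨ k = l) ∧
      ∀ {R : Type} [AddCommMonoid R] (f : ι → R), (∀ k, T.m i k = 0 → f k = 0) →
        ∑ k, f k = f a + f b + f l := by
  have hsub : ({a, b} : Finset ι) ⊆ T.supp i := by
    intro k hk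
    simp only [mem_insert, mem_singleton] at hk
    rcases hk with rfl | rfl <;> simpa [mem_supp]
  have h2 : ({a, b} : Finset ι).card = 2 := card_pair hab
  have h3 : (T.supp i).card = 3 := by have := T.card_supp i; omega
  obtain ⟨l, hl⟩ := card_eq_one.1 (show (T.supp i \ {a, b}).card = 1 by
    rw [card_sdiff_of_subset hsub, h3, h2])
  have hlm : l ∈ T.supp i \ {a, b} := hl ▸ mem_singleton_self l
  simp only [mem_sdiff, mem_insert, mem_singleton, not_or, mem_supp] at hlm
  obtain ⟨hl0, hla, hlb⟩ := hlm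
  have hmem : ∀ k, T.m i k ≠ 0 → k = a ∨ k = b ∨ k = l := by
    intro k hk
    by_cases hk' : k ∈ ({a, b} : Finset ι)
    · simp only [mem_insert, mem_singleton] at hk'; tauto
    · have : k ∈ T.supp i \ {a, b} := mem_sdiff.2 ⟨T.mem_supp.2 hk, hk'⟩
      rw [hl, mem_singleton] at this; tauto
  refine ⟨l, hl0, hla, hlb, hmem, fun {R} _ f hf => ?_⟩
  rw [← sum_subset (subset_univ ({a, b, l} : Finset ι)) fun k _ hk => hf k (by
    by_contra h
    rcases hmem k h with rfl | rfl | rfl <;> simp at hk)]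
  rw [sum_insert (by simp [hab, Ne.symm hla]), sum_insert (by simp [Ne.symm hlb]), sum_singleton]
  ac_rfl

/-- The fourth constituent of a lift of norm four. -/
theorem exists_fourth (i : Fin 5) (hi : gram i i = 4) {a b c : ι} (ha : T.m i a ≠ 0)
    (hb : T.m i b ≠ 0) (hc : T.m i c ≠ 0) (hab : a ≠ b) (hac : a ≠ c) (hbc : b ≠ c) :
    ∃ l, T.m i l ≠ 0 ∧ l ≠ a ∧ l ≠ b ∧ l ≠ c ∧ (∀ k, T.m i k ≠ 0 → k = a ∨ k = b ∨ k = c ∨ k = l) ∧
      ∀ {R : Type} [AddCommMonoid R] (f : ι → R), (∀ k, T.m i k = 0 → f k = 0) →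
        ∑ k, f k = f a + f b + f c + f l := by
  have hsub : ({a, b, c} : Finset ι) ⊆ T.supp i := by
    intro k hk
    simp only [mem_insert, mem_singleton] at hk
    rcases hk with rfl | rfl | rfl <;> simpa [mem_supp]
  have h3 : ({a, b, c} : Finset ι).card = 3 := card_eq_three.2 ⟨a, b, c, hab, hac, hbc, rfl⟩
  have h4 : (T.supp i).card = 4 := by have := T.card_supp i; omega
  obtain ⟨l, hl⟩ := card_eq_one.1 (show (T.supp i \ {a, b, c}).card = 1 by
    rw [card_sdiff_of_subset hsub, h4, h3])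
  have hlm : l ∈ T.supp i \ {a, b, c} := hl ▸ mem_singleton_self l
  simp only [mem_sdiff, mem_insert, mem_singleton, not_or, mem_supp] at hlm
  obtain ⟨hl0, hla, hlb, hlc⟩ := hlm
  have hmem : ∀ k, T.m i k ≠ 0 → k = a ∨ k = b ∨ k = c ∨ k = l := by
    intro k hk
    by_cases hk' : k ∈ ({a, b, c} : Finset ι)
    · simp only [mem_insert, mem_singleton] at hk'; tauto
    · have : k ∈ T.supp i \ {a, b, c} := mem_sdiff.2 ⟨T.mem_supp.2 hk, hk'⟩
      rw [hl, mem_singleton] at this; tauto
  refine ⟨l, hl0, hla, hlb, hlc, hmem, fun {R} _ f hf => ?_⟩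
  rw [← sum_subset (subset_univ ({a, b, c, l} : Finset ι)) fun k _ hk => hf k (by
    by_contra h
    rcases hmem k h with rfl | rfl | rfl | rfl <;> simp at hk)]
  rw [sum_insert (by simp [hab, hac, Ne.symm hla]), sum_insert (by simp [hbc, Ne.symm hlb]),
    sum_insert (by simp [Ne.symm hlc]), sum_singleton]
  ac_rfl

/-- The signed degree. -/
noncomputable def d (i : Fin 5) (k : ι) : ℂ := (T.m i k * T.deg k : ℤ)

theorem d_ne (i : Fin 5) {k : ι} (h : T.m i k ≠ 0) : T.d i k ≠ 0 := by
  rw [d, Int.cast_ne_zero]; exact mul_ne_zero h (T.deg_pos k).ne'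

theorem d_eq {i j : Fin 5} {k : ι} (h : T.m i k = T.m j k) : T.d i k = T.d j k := by rw [d, d, h]

theorem d_neg {i j : Fin 5} {k : ι} (h : T.m i k = -T.m j k) : T.d i k = -T.d j k := by
  simp [d, h]

/-- A combination with at most two constituents has vanishing second moments. -/
theorem two_point {f : ι → ℤ} (h0 : ∑ k, f k * T.deg k = 0)
    (hA : ∑ k, (f k * T.deg k : ℂ) * T.A k = 0) (hB : ∑ k, (f k * T.deg k : ℂ) * T.B k = 0)
    (h2 : (univ.filter fun k => f k ≠ 0).card ≤ 2) :
    ∑ k, (f k * T.deg k : ℂ) * T.A k ^ 2 = 0 ∧ ∑ k, (f k * T.deg k : ℂ) * T.A k * T.B k = 0 ∧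
      ∑ k, (f k * T.deg k : ℂ) * T.B k ^ 2 = 0 := by
  have hf : ∀ {g : ι → ℂ}, ∑ k, (f k * T.deg k : ℂ) * g k =
      ∑ k ∈ univ.filter (fun k => f k ≠ 0), (f k * T.deg k : ℂ) * g k := fun {g} =>
    (sum_filter_of_ne (p := fun k => f k ≠ 0) fun k _ h (e : f k = 0) => h (by simp [e])).symm
  have h0' : ∑ k ∈ univ.filter (fun k => f k ≠ 0), (f k * T.deg k : ℂ) * 1 = 0 := by
    rw [← hf]; simp only [mul_one]; exact_mod_cast h0
  simp only [mul_assoc _ (T.A _) (T.B _), hf] at hA hB ⊢
  generalize hs : univ.filter (fun k => f k ≠ 0) = s at *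
  have hc : s.card = 0 ∨ s.card = 1 ∨ s.card = 2 := by omega
  rcases hc with hc | hc | hc
  · rw [card_eq_zero] at hc; simp [hc]
  · obtain ⟨e, rfl⟩ := card_eq_one.1 hc
    simp only [sum_singleton, mul_one] at h0' ⊢
    simp [h0']
  · obtain ⟨e, l, hel, rfl⟩ := card_eq_two.1 hc
    simp only [sum_pair hel, mul_one] at h0' hA hB ⊢
    have he : (f e * T.deg e : ℂ) ≠ 0 := by
      have : e ∈ ({e, l} : Finset ι) := by simp
      rw [← hs, mem_filter] at this
      exact_mod_cast mul_ne_zero this.2 (T.deg_pos e).ne'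
    have hxA : T.A e = T.A l := sub_eq_zero.1 ((mul_eq_zero.1
      (show (f e * T.deg e : ℂ) * (T.A e - T.A l) = 0 by
        linear_combination hA - T.A l * h0')).resolve_left he)
    have hxB : T.B e = T.B l := sub_eq_zero.1 ((mul_eq_zero.1
      (show (f e * T.deg e : ℂ) * (T.B e - T.B l) = 0 by
        linear_combination hB - T.B l * h0')).resolve_left he)
    rw [hxA, hxB]
    refine ⟨?_, ?_, ?_⟩
    · linear_combination T.A l ^ 2 * h0'
    · linear_combination T.A l * T.B l * h0'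
    · linear_combination T.B l ^ 2 * h0'

theorem meet_values {g x y z : ℤ} (hg : g = 1 ∨ g = -1) (hx : x = 0 ∨ x = 1 ∨ x = -1)
    (hy : y = 0 ∨ y = 1 ∨ y = -1) (hz : z = 0 ∨ z = 1 ∨ z = -1) (h : x + y + z = g) :
    (x = g ∧ y = 0 ∧ z = 0) ∨ (y = g ∧ x = 0 ∧ z = 0) ∨ (z = g ∧ x = 0 ∧ y = 0) ∨
      (x ≠ 0 ∧ y ≠ 0 ∧ z ≠ 0) := by omega

/-- A lift of norm three meets the others in a single constituent. -/
theorem meet (i j : Fin 5) (hj : gram j j = 3) (g : ℤ) (hg : gram i j = g) (hg1 : g = 1 ∨ g = -1)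
    (hne : (moments i).1 ≠ g * (moments j).1 ∨ (moments i).2.2 ≠ g * (moments j).2.2) :
    ∃ K, T.m j K ≠ 0 ∧ T.m i K = g * T.m j K ∧ ∀ k, k ≠ K → T.m j k ≠ 0 → T.m i k = 0 := by
  have h3 : (T.supp j).card = 3 := by have := T.card_supp j; omega
  obtain ⟨a, b, c, hab, hac, hbc, he⟩ := card_eq_three.1 h3
  have hm : ∀ k, T.m j k ≠ 0 → k = a ∨ k = b ∨ k = c := fun k hk => by
    have := T.mem_supp.2 hk
    simpa [he] using this
  have ha : T.m j a ≠ 0 := T.mem_supp.1 (by simp [he])
  have hb : T.m j b ≠ 0 := T.mem_supp.1 (by simp [he])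
  have hc : T.m j c ≠ 0 := T.mem_supp.1 (by simp [he])
  have hval : ∀ k, T.m i k * T.m j k = 0 ∨ T.m i k * T.m j k = 1 ∨ T.m i k * T.m j k = -1 := by
    intro k
    rcases T.unit_value i k with e | e | e <;> rcases T.unit_value j k with f | f | f <;> simp [e, f]
  have hsum := T.m_gram i j
  rw [hg, ← sum_subset (subset_univ (T.supp j)) (fun k _ hk => by
    rw [show T.m j k = 0 by simpa [mem_supp] using hk, mul_zero]), he,
    sum_insert (by simp [hab, hac]), sum_insert (by simp [hbc]), sum_singleton, ← add_assoc] at hsum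
  have one : ∀ {K : ι}, T.m j K ≠ 0 → T.m i K * T.m j K = g → T.m i K = g * T.m j K := by
    intro K hK h
    have := T.sq_eq_one hK
    linear_combination T.m j K * h - T.m i K * this
  rcases meet_values hg1 (hval a) (hval b) (hval c) hsum with
    ⟨h1, h2, h3⟩ | ⟨h1, h2, h3⟩ | ⟨h1, h2, h3⟩ | ⟨h1, h2, h3⟩
  · refine ⟨a, ha, one ha h1, fun k hk hk' => ?_⟩
    rcases hm k hk' with rfl | rfl | rfl
    · exact absurd rfl hk
    · exact (mul_eq_zero.1 h2).resolve_right hk'
    · exact (mul_eq_zero.1 h3).resolve_right hk'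
  · refine ⟨b, hb, one hb h1, fun k hk hk' => ?_⟩
    rcases hm k hk' with rfl | rfl | rfl
    · exact (mul_eq_zero.1 h2).resolve_right hk'
    · exact absurd rfl hk
    · exact (mul_eq_zero.1 h3).resolve_right hk'
  · refine ⟨c, hc, one hc h1, fun k hk hk' => ?_⟩
    rcases hm k hk' with rfl | rfl | rfl
    · exact (mul_eq_zero.1 h2).resolve_right hk'
    · exact (mul_eq_zero.1 h3).resolve_right hk'
    · exact absurd rfl hk
  exfalso
  have hg2 : g * g = 1 := by rcases hg1 with rfl | rfl <;> norm_num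
  set f : ι → ℤ := fun k => T.m i k - g * T.m j k with hf
  have hsq : ∑ k, f k * f k = gram i i + 1 := by
    have e1 := T.m_gram i i
    have e2 := T.m_gram j j
    have e3 := T.m_gram i j
    rw [hj] at e2
    rw [hg] at e3
    calc ∑ k, f k * f k = ∑ k, T.m i k * T.m i k + g * g * ∑ k, T.m j k * T.m j k
          - 2 * g * ∑ k, T.m i k * T.m j k := by
            simp only [hf, mul_sum, ← sum_add_distrib, ← sum_sub_distrib]
            exact sum_congr rfl fun k _ => by ring
      _ = _ := by rw [e1, e2, e3, mul_assoc 2 g g, hg2]; ring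
  obtain ⟨k₀, hk₀⟩ : ∃ k, 4 ≤ f k * f k := by
    have key : ∀ k, T.m j k ≠ 0 → T.m i k * T.m j k = -g → 4 ≤ f k * f k := by
      intro k hk h
      have h2 := T.sq_eq_one hk
      have : T.m i k = -(g * T.m j k) := by linear_combination T.m j k * h - T.m i k * h2
      have h4 : f k * f k = 4 := by
        rw [hf]; dsimp only; rw [this]
        linear_combination 4 * (g * g) * h2 + 4 * hg2
      omega
    have := hval a
    have := hval b
    have := hval c
    rcases (show T.m i a * T.m j a = -g ∨ T.m i b * T.m j b = -g ∨ T.m i c * T.m j c = -g by omega)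
      with h | h | h
    exacts [⟨a, key a ha h⟩, ⟨b, key b hb h⟩, ⟨c, key c hc h⟩]
  have hcard : (univ.filter fun k => f k ≠ 0).card ≤ 2 := by
    have hle : ((univ.filter fun k => f k ≠ 0).erase k₀).card ≤ 1 := by
      have h1 : (((univ.filter fun k => f k ≠ 0).erase k₀).card : ℤ) ≤
          ∑ k ∈ (univ.filter fun k => f k ≠ 0).erase k₀, f k * f k := by
        rw [← mul_one (((univ.filter fun k => f k ≠ 0).erase k₀).card : ℤ), ← nsmul_eq_mul]
        refine card_nsmul_le_sum _ _ _ fun k hk => ?_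
        have hk' := (mem_filter.1 (mem_of_mem_erase hk)).2
        have := mul_self_pos.2 hk'
        omega
      have h2 : ∑ k ∈ (univ.filter fun k => f k ≠ 0).erase k₀, f k * f k ≤
          ∑ k ∈ univ.erase k₀, f k * f k :=
        sum_le_sum_of_subset_of_nonneg (erase_subset_erase _ (filter_subset _ _))
          fun k _ _ => mul_self_nonneg _
      rw [← add_sum_erase _ _ (mem_univ k₀)] at hsq
      have := gram_diag_le i
      omega
    have := pred_card_le_card_erase (s := univ.filter fun k => f k ≠ 0) (a := k₀)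
    omega
  have hcast : ∀ k, (f k * T.deg k : ℂ) =
      (T.m i k * T.deg k : ℂ) - (g : ℂ) * (T.m j k * T.deg k : ℂ) := fun k => by
    simp [hf]; ring
  have hlin : ∀ (F : ι → ℂ), ∑ k, (f k * T.deg k : ℂ) * F k =
      ∑ k, (T.m i k * T.deg k : ℂ) * F k - (g : ℂ) * ∑ k, (T.m j k * T.deg k : ℂ) * F k := by
    intro F
    simp only [hcast, sub_mul, sum_sub_distrib, mul_sum, mul_assoc]
  obtain ⟨hAA, -, hBB⟩ := T.two_point (f := f) (by
      have : ∑ k, f k * T.deg k = ∑ k, T.m i k * T.deg k - g * ∑ k, T.m j k * T.deg k := by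
        simp only [hf, sub_mul, sum_sub_distrib, mul_sum, mul_assoc]
      rw [this, T.deg_sum, T.deg_sum]; ring)
    (by rw [hlin, T.A_sum, T.A_sum]; ring) (by rw [hlin, T.B_sum, T.B_sum]; ring) hcard
  rw [hlin, T.AA_sum, T.AA_sum] at hAA
  rw [hlin, T.BB_sum, T.BB_sum] at hBB
  rcases hne with h | h
  · exact h (by exact_mod_cast sub_eq_zero.1 hAA)
  · exact h (by exact_mod_cast sub_eq_zero.1 hBB)

/-- The inverse moment form on differences of points. -/
noncomputable def form (i : Fin 5) (k a b : ι) : ℂ :=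
  adjForm ((moments i).1 : ℂ) (moments i).2.1 (moments i).2.2 (T.A a - T.A k) (T.B a - T.B k)
    (T.A b - T.A k) (T.B b - T.B k)

/-- The determinant of a moment matrix. -/
noncomputable def det (i : Fin 5) : ℂ :=
  ((moments i).1 : ℂ) * (moments i).2.2 - ((moments i).2.1 : ℂ) ^ 2

theorem form_identities (i : Fin 5) (hi : gram i i = 4) {k a b : ι} (hk : T.m i k ≠ 0)
    (ha : T.m i a ≠ 0) (hb : T.m i b ≠ 0) (hka : k ≠ a) (hkb : k ≠ b) (hab : a ≠ b) :
    T.d i k * T.form i k a b = det i ∧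
      T.d i a * T.d i k * T.form i k a a = (T.d i a + T.d i k) * det i := by
  obtain ⟨l, hl0, -, -, -, -, hsum⟩ := T.exists_fourth i hi hk ha hb hka hkb hab
  have s0 := hsum (fun k => T.m i k * T.deg k) (fun k e => by simp [e])
  have sA := hsum (fun k => (T.m i k * T.deg k : ℂ) * T.A k) (fun k e => by simp [e])
  have sB := hsum (fun k => (T.m i k * T.deg k : ℂ) * T.B k) (fun k e => by simp [e])
  have sAA := hsum (fun k => (T.m i k * T.deg k : ℂ) * T.A k ^ 2) (fun k e => by simp [e])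
  have sAB := hsum (fun k => (T.m i k * T.deg k : ℂ) * T.A k * T.B k) (fun k e => by simp [e])
  have sBB := hsum (fun k => (T.m i k * T.deg k : ℂ) * T.B k ^ 2) (fun k e => by simp [e])
  rw [T.deg_sum] at s0
  rw [T.A_sum] at sA
  rw [T.B_sum] at sB
  rw [T.AA_sum] at sAA
  rw [T.AB_sum] at sAB
  rw [T.BB_sum] at sBB
  refine moment_identities (dk := T.d i k) (di := T.d i a) (dj := T.d i b) (dl := T.d i l)
    (ak := T.A k) (ai := T.A a) (aj := T.A b) (al := T.A l) (bk := T.B k) (bi := T.B a) (bj := T.B b)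
    (bl := T.B l) (T.d_ne i hl0) ?_ ?_ ?_ ?_ ?_ ?_
  · simp only [d]; exact_mod_cast s0.symm
  · simp only [d]; push_cast; exact sA.symm
  · simp only [d]; push_cast; exact sB.symm
  · simp only [d]; push_cast; exact sAA.symm
  · simp only [d]; push_cast; exact sAB.symm
  · simp only [d]; push_cast; exact sBB.symm

/-- The quadratic identity for two constituents. -/
theorem quad (i : Fin 5) (hi : gram i i = 4) {k a : ι} (hk : T.m i k ≠ 0) (ha : T.m i a ≠ 0)
    (hka : k ≠ a) :
    T.d i a * T.d i k * T.form i k a a = (T.d i a + T.d i k) * det i := by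
  obtain ⟨b, hb⟩ : ((T.supp i).erase k |>.erase a).Nonempty := by
    rw [← card_pos, card_erase_of_mem (mem_erase.2 ⟨hka.symm, T.mem_supp.2 ha⟩),
      card_erase_of_mem (T.mem_supp.2 hk)]
    have := T.card_supp i
    omega
  simp only [mem_erase, mem_supp] at hb
  exact (T.form_identities i hi hk ha hb.2.2 hka hb.2.1.symm hb.1.symm).2

end Config

end CfsgLib.OrderDegrees.StrongCore
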