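import Cfsg.Agent.Lib.OrderDegrees.StrongCore.Model
import Cfsg.Agent.Lib.OrderDegrees.BlockThree.Main

/-!
# Structural finite checks in the model of `3³ : S₄`
-/

set_option autoImplicit false
set_option synthInstance.maxSize 2000
set_option Elab.async false

namespace CfsgLib.OrderDegrees.StrongCore

/-- The elements fixing a translation. -/
def stabCard (v : Vec) : ℕ := (Finset.univ.filter fun r : Mon => act r v = v).card

theorem same_orbit : ∀ u w : Vec, u ≠ 0 → w ≠ 0 → stabCard u = stabCard w →
    ∃ r : Mon, act r u = w := by decide +kernel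

theorem card_cent : ∀ u : Vec,
    (Finset.univ.filter fun n : K0 =>
      n * ⟨Multiplicative.ofAdd u, 1⟩ = ⟨Multiplicative.ofAdd u, 1⟩ * n).card = 27 * stabCard u := by
  decide +kernel

theorem card_translations :
    (Finset.univ.filter fun n : K0 => n.right = 1).card = 27 ∧ Fintype.card K0 = 648 := by
  decide +kernel

theorem odd_mul : ∀ r s : Mon, (r * s).odd = xor r.odd s.odd := by decide +kernel

/-- A second double sign change. -/
def dd' : K0 := (⟨1, ⟨12⟩⟩ : K0) * dd * (⟨1, ⟨12⟩⟩ : K0)⁻¹

/-- The commutator of a translation with an involution. -/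
def comm (w : V) (d : K0) : K0 := (⟨w, 1⟩ : K0) * d * (⟨w, 1⟩ : K0)⁻¹ * d

theorem translation_comm : ∀ v : V, ∃ w₁ w₂ : V, (⟨v, 1⟩ : K0) = comm w₁ dd * comm w₂ dd' := by
  decide +kernel

theorem klein_conj : ∀ q : Mon, q.odd = false → q * q = 1 → q ≠ 1 →
    ∃ c : Mon, c * dd.right * c⁻¹ = q := by decide +kernel

theorem odd_commutator : ∀ r : Mon, r.odd = true →
    ∃ c : Mon, c * r * c⁻¹ * r⁻¹ ≠ 1 ∧ (c * r * c⁻¹ * r⁻¹) ^ 3 = 1 := by decide +kernel

theorem three_even : ∀ r : Mon, r ^ 3 = 1 → r.odd = false := by decide +kernel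

theorem even_order : ∀ r : Mon, r.odd = false → r * r = 1 ∨ (r ≠ 1 ∧ r ^ 3 = 1) := by decide +kernel

theorem even_generated : ∀ r s : Mon, r ^ 3 = 1 → r ≠ 1 → s.odd = false →
    ∃ i : Fin 3, ∃ q : Mon, q.odd = false ∧ q * q = 1 ∧ s = q * r ^ i.val := by decide +kernel

theorem not_three_normal : ∀ r : Mon, r ^ 81 = 1 → r ≠ 1 →
    ∃ c : Mon, (r * (c * r * c⁻¹)) ^ 81 ≠ 1 := by decide +kernel

/-- The elements over the four-group. -/
def InBlocks (n : K0) : Prop := n.right.odd = false ∧ n.right * n.right = 1

instance : DecidablePred InBlocks := fun n =>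
  inferInstanceAs (Decidable (n.right.odd = false ∧ n.right * n.right = 1))

theorem inBlocks_mul : ∀ r s : Mon, r.odd = false → r * r = 1 → s.odd = false → s * s = 1 →
    (r * s).odd = false ∧ r * s * (r * s) = 1 := by decide +kernel

/-- An affine map of a block. -/
def affine (s : Bool) (v : Fin 3) : Equiv.Perm (Fin 3) where
  toFun j := if s then v - j else v + j
  invFun j := if s then v - j else j - v
  left_inv j := by revert s v j; decide
  right_inv j := by revert s v j; decide

/-- The block coordinates of an element over the four-group. -/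
def toBlocks (n : K0) : BlockThree.Q3 := fun k => affine (n.right.neg k) (coord n.left.toAdd k)

private theorem src_block : ∀ r : Mon, r.odd = false → r * r = 1 → ∀ k : Fin 3, r.src k = k := by
  decide +kernel

private theorem affine_mul : ∀ r s : Mon, r.odd = false → r * r = 1 → s.odd = false → s * s = 1 →
    ∀ (k : Fin 3) (x y : ZMod 3), affine ((r * s).neg k) (x + if r.neg k then -y else y) =
      affine (r.neg k) x * affine (s.neg k) y := by
  decide +kernel

theorem toBlocks_mul : ∀ a b : K0, InBlocks a → InBlocks b →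
    toBlocks (a * b) = toBlocks a * toBlocks b := by
  intro a b ha hb
  funext k
  have hadd : ∀ u w : Vec, coord (u + w) k = coord u k + coord w k := fun u w => by
    fin_cases k <;> rfl
  have hact : ∀ w : Vec, coord (act a.right w) k =
      if a.right.neg k then -coord w (a.right.src k) else coord w (a.right.src k) := fun w => by
    fin_cases k <;> rfl
  show affine ((a.right * b.right).neg k) (coord (a.left.toAdd + act a.right b.left.toAdd) k) =
    affine (a.right.neg k) (coord a.left.toAdd k) * affine (b.right.neg k) (coord b.left.toAdd k)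
  rw [hadd, hact, src_block _ ha.1 ha.2 k]
  exact affine_mul _ _ ha.1 ha.2 hb.1 hb.2 k _ _

theorem toBlocks_inj : ∀ n : K0, InBlocks n → toBlocks n = 1 → n = 1 := by decide +kernel

theorem toBlocks_even : ∀ n : K0, InBlocks n → BlockThree.EvenTriple (toBlocks n) := by
  decide +kernel

theorem toBlocks_surj : ∀ k : Fin 3, (∃ n : K0, InBlocks n ∧ toBlocks n = BlockThree.cvec k) ∧
    ∃ n : K0, InBlocks n ∧ toBlocks n = BlockThree.evec k := by decide +kernel

private theorem mon_exp : ∀ r : Mon, r ^ 12 = 1 := by decide +kernel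

private theorem trans_cube : ∀ v : V, v ^ 3 = 1 := by decide +kernel

theorem pow_exponent : ∀ n : K0, n ^ 36 = 1 := by
  intro n
  have h : (n ^ 12).right = 1 :=
    (map_pow (SemidirectProduct.rightHom : K0 →* Mon) n 12).trans (mon_exp _)
  have e : n ^ 12 = SemidirectProduct.inl (n ^ 12).left :=
    SemidirectProduct.ext (by simp) (h.trans (by simp))
  rw [show (36 : ℕ) = 12 * 3 from rfl, pow_mul, e, ← map_pow, trans_cube, map_one]

theorem three_part {n : K0} {m : ℕ} (h : n ^ 3 ^ m = 1) : n ^ 9 = 1 := by
  refine orderOf_dvd_iff_pow_eq_one.1 ?_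
  obtain ⟨j, -, hj⟩ := (Nat.dvd_prime_pow Nat.prime_three).1 (orderOf_dvd_of_pow_eq_one h)
  have h36 : orderOf n ∣ 9 * 4 := orderOf_dvd_of_pow_eq_one (pow_exponent n)
  rw [hj] at h36 ⊢
  exact Nat.Coprime.dvd_of_dvd_mul_right (Nat.Coprime.pow_left j (by norm_num)) h36

end CfsgLib.OrderDegrees.StrongCore
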