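import Cfsg.Agent.Lib.OrderDegrees.StrongCore.Model

/-!
# Finite checks in the model of `3³ : S₄`
-/

set_option autoImplicit false
set_option Elab.async false
set_option synthInstance.maxSize 2000

namespace CfsgLib.OrderDegrees.StrongCore

theorem vfun_eq_zero : ∀ (i : Fin 5) (n : K0), ¬ Special n → vfun i n = 0 := by
  intro i
  fin_cases i <;> decide +kernel

theorem vfun_inner : ∀ i j : Fin 5,
    ∑ n : K0, vfun i n * (vfun j n).bar = Z12.ofInt (648 * gram i j) := by
  intro i j
  fin_cases i <;> fin_cases j <;> decide +kernel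

theorem vfun_sum : ∀ i : Fin 5, ∑ n : K0, vfun i n = Z12.ofInt (648 * mone i) := by decide +kernel

theorem vfun_sum_even : ∑ n ∈ (Finset.univ : Finset K0).filter (fun n => n.right.odd = false),
    vfun 3 n = 0 := by decide +kernel

theorem isConj_rep : ∀ n : K0, n * n = 1 → n ≠ 1 →
    ∃ c : K0, c * rep (cls n) * c⁻¹ = n := by decide +kernel

theorem rep_sq : ∀ i : Bool, rep i * rep i = 1 ∧ rep i ≠ 1 := by decide +kernel

theorem involution_not_special : ∀ n : K0, n * n = 1 → ¬ Special n := by decide +kernel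

theorem pairSum_eq : ∀ i : Fin 5,
    pairSum i false false = Z12.ofInt (648 * (moments i).1) ∧
    pairSum i false true = Z12.ofInt (648 * (moments i).2.1) ∧
    pairSum i true true = Z12.ofInt (648 * (moments i).2.2) := by
  intro i
  fin_cases i <;> refine ⟨?_, ?_, ?_⟩ <;> decide +kernel

theorem tr_facts : ∀ i : Bool, (tr i).right = 1 ∧ tr i ≠ 1 ∧ tr i * rep i = rep i * tr i := by
  decide +kernel

theorem cent_tr : ∀ (i : Bool) (n : K0), n * rep i = rep i * n → n * tr i = tr i * n →
    n ^ 9 = 1 → n = 1 ∨ n = tr i ∨ n = (tr i)⁻¹ := by decide +kernel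

private theorem mon_pow_three : ∀ r : Mon, r ^ 27 = 1 → r ^ 3 = 1 := by decide +kernel

private theorem trans_cube : ∀ v : V, v ^ 3 = 1 := by decide +kernel

theorem pow_nine : ∀ n : K0, n ^ 27 = 1 → n ^ 9 = 1 := by
  intro n h27
  have hr : (SemidirectProduct.rightHom n : Mon) ^ 27 = 1 := by rw [← map_pow, h27, map_one]
  have h : (n ^ 3).right = 1 :=
    (map_pow (SemidirectProduct.rightHom : K0 →* Mon) n 3).trans (mon_pow_three _ hr)
  have e : n ^ 3 = SemidirectProduct.inl (n ^ 3).left :=
    SemidirectProduct.ext (by simp) (h.trans (by simp))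
  rw [show (9 : ℕ) = 3 * 3 from rfl, pow_mul, e, ← map_pow, trans_cube, map_one]

theorem tr_not_conj : ∀ c : K0, c * tdd * c⁻¹ ≠ trr ∧ c * tdd * c⁻¹ ≠ trr⁻¹ := by decide +kernel

end CfsgLib.OrderDegrees.StrongCore
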