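import Cfsg.Agent.Lib.OrderDegrees.StrongCore.Model
import Mathlib.GroupTheory.Perm.Basic
import Mathlib.Algebra.Group.Subgroup.Map

/-!
# The model as a permutation group of nine points
-/

set_option autoImplicit false
set_option synthInstance.maxSize 2000

namespace CfsgLib.OrderDegrees.StrongCore

/-- The block and position of a point. -/
def bk (x : Fin 9) : Fin 3 := ⟨x.val / 3, by omega⟩

/-- The position of a point in its block. -/
def po (x : Fin 9) : ZMod 3 := ((x.val % 3 : ℕ) : ZMod 3)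

/-- The point with given block and position. -/
def mk9 (k : Fin 3) (j : ZMod 3) : Fin 9 := Fin.ofNat 9 (3 * k.val + j.val)

/-- Translations moving the points. -/
def vFun (v : Vec) (x : Fin 9) : Fin 9 := mk9 (bk x) (po x + coord v (bk x))

/-- The monomial group moving the points. -/
def rFun (r : Mon) (x : Fin 9) : Fin 9 :=
  mk9 (r⁻¹.src (bk x)) (if r.neg (r⁻¹.src (bk x)) then -po x else po x)

theorem vFun_add : ∀ (v w : Vec) (x : Fin 9), vFun (v + w) x = vFun v (vFun w x) := by decide +kernel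

theorem vFun_zero : ∀ x : Fin 9, vFun 0 x = x := by decide +kernel

theorem rFun_mul : ∀ (r s : Mon) (x : Fin 9), rFun (r * s) x = rFun r (rFun s x) := by decide +kernel

theorem rFun_one : ∀ x : Fin 9, rFun 1 x = x := by decide +kernel

theorem rFun_vFun : ∀ (r : Mon) (v : Vec) (x : Fin 9),
    vFun (act r v) (rFun r x) = rFun r (vFun v x) := by decide +kernel

/-- Translations as permutations. -/
def vPerm : V →* Equiv.Perm (Fin 9) where
  toFun v :=
    { toFun := vFun v.toAdd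
      invFun := vFun (-v.toAdd)
      left_inv := fun x => by rw [← vFun_add, neg_add_cancel, vFun_zero]
      right_inv := fun x => by rw [← vFun_add, add_neg_cancel, vFun_zero] }
  map_one' := by ext1 x; exact vFun_zero x
  map_mul' a b := by ext1 x; exact vFun_add _ _ x

/-- The monomial group as permutations. -/
def rPerm : Mon →* Equiv.Perm (Fin 9) where
  toFun r :=
    { toFun := rFun r
      invFun := rFun r⁻¹
      left_inv := fun x => by rw [← rFun_mul, inv_mul_cancel, rFun_one]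
      right_inv := fun x => by rw [← rFun_mul, mul_inv_cancel, rFun_one] }
  map_one' := by ext1 x; exact rFun_one x
  map_mul' a b := by ext1 x; exact rFun_mul a b x

theorem compat (r : Mon) : vPerm.comp (aut r).toMonoidHom =
    (MulAut.conj (rPerm r)).toMonoidHom.comp vPerm := by
  refine MonoidHom.ext fun v => Equiv.ext fun x => ?_
  show vFun (act r v.toAdd) x = rFun r (vFun v.toAdd (rFun r⁻¹ x))
  rw [← rFun_vFun, ← rFun_mul, mul_inv_cancel, rFun_one]

/-- The model on nine points. -/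
def perm9 : K0 →* Equiv.Perm (Fin 9) := SemidirectProduct.lift vPerm rPerm compat

theorem perm9_inj : ∀ n : K0, (∀ x, perm9 n x = x) → n = 1 := by decide +kernel

theorem perm9_injective : Function.Injective perm9 :=
  (injective_iff_map_eq_one perm9).2 fun n h => perm9_inj n fun x => by rw [h]; rfl

/-- The preimages of the four generators. -/
def gen (m : Fin 4) : K0 :=
  match m with
  | 0 => ⟨Multiplicative.ofAdd (1, 0, 0), 1⟩
  | 1 => ⟨1, ⟨12⟩⟩
  | 2 => ⟨Multiplicative.ofAdd (1, 1, 0), ⟨3⟩⟩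
  | 3 => ⟨Multiplicative.ofAdd (0, 0, 1), ⟨8⟩⟩

theorem perm9_gen : ∀ x : Fin 9,
    perm9 (gen 0) x = ((Equiv.swap (0 : Fin 9) 1 * Equiv.swap 1 2) : Equiv.Perm (Fin 9)) x ∧
    perm9 (gen 1) x = ((Equiv.swap (0 : Fin 9) 3 * Equiv.swap 3 6 *
      (Equiv.swap (1 : Fin 9) 4 * Equiv.swap 4 7) * (Equiv.swap (2 : Fin 9) 5 * Equiv.swap 5 8)) : Equiv.Perm (Fin 9)) x ∧
    perm9 (gen 2) x = ((Equiv.swap (0 : Fin 9) 1 * Equiv.swap 3 4) : Equiv.Perm (Fin 9)) x ∧
    perm9 (gen 3) x = ((Equiv.swap (0 : Fin 9) 3 * Equiv.swap 1 4 * Equiv.swap 2 5 * Equiv.swap 6 7) : Equiv.Perm (Fin 9)) x := by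
  decide +kernel

/-- The translation along the coordinate `k`, through the generators. -/
def shift (k : Fin 3) : K0 := gen 1 ^ k.val * gen 0 * (gen 1 ^ k.val)⁻¹

/-- A double sign change through the generators. -/
def flip2 : K0 := (shift 0)⁻¹ * (shift 1)⁻¹ * gen 2

/-- A transposition through the generators. -/
def tp : K0 := (shift 2)⁻¹ * gen 3

theorem word_left : ∀ v : V, ∃ i j k : Fin 3,
    (⟨v, 1⟩ : K0) = shift 0 ^ i.val * shift 1 ^ j.val * shift 2 ^ k.val := by decide +kernel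

theorem word_right : ∀ r : Mon, ∃ i j : Fin 2, ∃ k : Fin 3, ∃ l : Fin 2,
    (⟨1, r⟩ : K0) = flip2 ^ i.val * (gen 1 * flip2 * (gen 1)⁻¹) ^ j.val * gen 1 ^ k.val *
      tp ^ l.val := by decide +kernel

theorem closure_gen : Subgroup.closure (Set.range gen) = ⊤ := by
  rw [eq_top_iff]
  intro n _
  have hg : ∀ m, gen m ∈ Subgroup.closure (Set.range gen) := fun m =>
    Subgroup.subset_closure ⟨m, rfl⟩
  have hs : ∀ k, shift k ∈ Subgroup.closure (Set.range gen) := fun k =>
    mul_mem (mul_mem (pow_mem (hg 1) _) (hg 0)) (inv_mem (pow_mem (hg 1) _))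
  have hf : flip2 ∈ Subgroup.closure (Set.range gen) :=
    mul_mem (mul_mem (inv_mem (hs 0)) (inv_mem (hs 1))) (hg 2)
  have ht : tp ∈ Subgroup.closure (Set.range gen) := mul_mem (inv_mem (hs 2)) (hg 3)
  rw [show n = (⟨n.left, 1⟩ : K0) * ⟨1, n.right⟩ from
    (SemidirectProduct.inl_left_mul_inr_right n).symm]
  obtain ⟨i, j, k, h1⟩ := word_left n.left
  obtain ⟨a, b, c, d, h2⟩ := word_right n.right
  rw [h1, h2]
  exact mul_mem (mul_mem (mul_mem (pow_mem (hs 0) _) (pow_mem (hs 1) _)) (pow_mem (hs 2) _))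
    (mul_mem (mul_mem (mul_mem (pow_mem hf _) (pow_mem (mul_mem (mul_mem (hg 1) hf) (inv_mem (hg 1))) _))
      (pow_mem (hg 1) _)) (pow_mem ht _))

/-- The generating set in the statement. -/
def gens9 : Set (Equiv.Perm (Fin 9)) :=
  {Equiv.swap (0 : Fin 9) 1 * Equiv.swap 1 2,
    Equiv.swap (0 : Fin 9) 3 * Equiv.swap 3 6 * (Equiv.swap (1 : Fin 9) 4 * Equiv.swap 4 7) *
      (Equiv.swap (2 : Fin 9) 5 * Equiv.swap 5 8),
    Equiv.swap (0 : Fin 9) 1 * Equiv.swap 3 4,
    Equiv.swap (0 : Fin 9) 3 * Equiv.swap 1 4 * Equiv.swap 2 5 * Equiv.swap 6 7}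

theorem range_perm9 : perm9.range = Subgroup.closure gens9 := by
  rw [MonoidHom.range_eq_map, ← closure_gen, MonoidHom.map_closure]
  congr 1
  have e : ∀ m, perm9 (gen m) ∈ gens9 := by
    intro m
    have h0 := Equiv.ext fun x => (perm9_gen x).1
    have h1 := Equiv.ext fun x => (perm9_gen x).2.1
    have h2 := Equiv.ext fun x => (perm9_gen x).2.2.1
    have h3 := Equiv.ext fun x => (perm9_gen x).2.2.2
    fin_cases m <;> simp [gens9, h0, h1, h2, h3]
  refine Set.Subset.antisymm ?_ ?_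
  · rintro _ ⟨_, ⟨m, rfl⟩, rfl⟩
    exact e m
  · intro σ hσ
    simp only [gens9, Set.mem_insert_iff, Set.mem_singleton_iff] at hσ
    rcases hσ with rfl | rfl | rfl | rfl
    exacts [⟨gen 0, ⟨0, rfl⟩, Equiv.ext fun x => (perm9_gen x).1⟩,
      ⟨gen 1, ⟨1, rfl⟩, Equiv.ext fun x => (perm9_gen x).2.1⟩,
      ⟨gen 2, ⟨2, rfl⟩, Equiv.ext fun x => (perm9_gen x).2.2.1⟩,
      ⟨gen 3, ⟨3, rfl⟩, Equiv.ext fun x => (perm9_gen x).2.2.2⟩]

end CfsgLib.OrderDegrees.StrongCore
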