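import Cfsg.Agent.Lib.OrderDegrees.StrongCore.Setting
import Cfsg.Agent.Lib.OrderDegrees.StrongCore.Nine
import Cfsg.Agent.Lib.OrderDegrees.BlockThree.Main
import Cfsg.Prelude.Def_Solvable

/-!
# A subgroup `3³ : S₄` containing the centralisers of its three-core is the whole group
-/

set_option autoImplicit false
set_option linter.style.haveILetI false
set_option linter.unusedSectionVars false
set_option synthInstance.maxSize 2000

open scoped ComplexConjugate
open Cfsg CfsgLib.CharTheory CfsgLib.Frobenius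

namespace CfsgLib.OrderDegrees.StrongCore

namespace Setting

variable {G : Type*} [Group G] [Fintype G] (S : Setting G)

theorem card_J : Nat.card S.J = 27 := by
  classical
  rw [← card_translations.1, ← Fintype.card_coe, ← Nat.card_eq_fintype_card]
  symm
  refine Nat.card_congr (Equiv.ofBijective (fun n => ⟨S.e n.1, (S.mem _).2 (Finset.mem_filter.1 n.2).2⟩)
    ⟨fun a b h => Subtype.ext (S.inj (congrArg Subtype.val h)), fun j => ?_⟩)
  obtain ⟨u, hu⟩ := S.exists_transl j.2
  exact ⟨⟨transl u, Finset.mem_filter.2 ⟨Finset.mem_univ _, rfl⟩⟩, Subtype.ext hu⟩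

theorem conj_mem_J {h j : G} (hh : h ∈ S.H) (hj : j ∈ S.J) : h * j * h⁻¹ ∈ S.J := by
  obtain ⟨n, rfl⟩ : h ∈ S.e.range := S.range ▸ hh
  obtain ⟨u, rfl⟩ := S.exists_transl hj
  rw [← map_inv, ← map_mul, ← map_mul, S.mem, SemidirectProduct.mul_right,
    SemidirectProduct.mul_right, SemidirectProduct.inv_right]
  simp [transl]

theorem tdd_mem : S.e tdd ∈ S.J ∧ S.e tdd ≠ 1 :=
  ⟨(S.mem _).2 (tr_facts false).1, fun e => (tr_facts false).2.1 (S.inj (e.trans (map_one _).symm))⟩

/-- A proper normal subgroup meeting the subgroup over the four-group. -/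
theorem exists_normal [Fintype S.H] [Fintype (IrrCharacter G)] :
    ∃ K : Subgroup G, K.Normal ∧ ∀ n, S.e n ∈ K ↔ InBlocks n := by
  classical
  obtain ⟨χ, hχ1, -, hχd⟩ := S.exists_deg_two
  obtain ⟨K, hK, hmem, hconst⟩ := exists_kernel (IsIrrCharacter.isCharacter χ.2)
  refine ⟨K, hK, ?_⟩
  set KK := K.comap S.e with hKK
  haveI : KK.Normal := hK.comap S.e
  have hdd : dd ∈ KK := (hmem _).2 hχd
  have hdd' : dd' ∈ KK := Subgroup.Normal.conj_mem ‹_› _ hdd _
  have hcomm : ∀ w d, d ∈ KK → comm w d ∈ KK := fun w d hd =>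
    mul_mem (Subgroup.Normal.conj_mem ‹_› _ hd _) hd
  have hV : ∀ v : V, (⟨v, 1⟩ : K0) ∈ KK := fun v => by
    obtain ⟨w₁, w₂, h⟩ := translation_comm v
    rw [h]; exact mul_mem (hcomm _ _ hdd) (hcomm _ _ hdd')
  -- membership only depends on the image in the complement
  let R : Subgroup Mon := KK.comap SemidirectProduct.inr
  haveI : R.Normal := Subgroup.Normal.comap ‹_› _
  have hR : ∀ n, n ∈ KK ↔ n.right ∈ R := fun n => by
    conv_lhs => rw [← SemidirectProduct.inl_left_mul_inr_right n]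
    exact KK.mul_mem_cancel_left (hV n.left)
  have hklein : ∀ q : Mon, q.odd = false → q * q = 1 → q ∈ R := by
    intro q hq1 hq2
    by_cases h1 : q = 1
    · rw [h1]; exact R.one_mem
    obtain ⟨c, rfl⟩ := klein_conj q hq1 hq2 h1
    exact Subgroup.Normal.conj_mem ‹_› _ ((hR dd).1 hdd) _
  intro n
  rw [show S.e n ∈ K ↔ n.right ∈ R from hR n]
  refine ⟨fun hn => ?_, fun hn => hklein _ hn.1 hn.2⟩
  by_contra hnot
  obtain ⟨r, hrR, hr1, hr3⟩ : ∃ r ∈ R, r ≠ 1 ∧ r ^ 3 = 1 := by
    cases hodd : n.right.odd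
    · rcases even_order _ hodd with h | ⟨h1, h3⟩
      · exact absurd ⟨hodd, h⟩ hnot
      · exact ⟨_, hn, h1, h3⟩
    · obtain ⟨c, hc1, hc3⟩ := odd_commutator _ hodd
      exact ⟨_, mul_mem (Subgroup.Normal.conj_mem ‹_› _ hn c) (inv_mem hn), hc1, hc3⟩
  have heven : ∀ m : K0, m.right.odd = false → m ∈ KK := fun m hm => (hR m).2 (by
    obtain ⟨i, q, hq1, hq2, hs⟩ := even_generated r m.right hr3 hr1 hm
    rw [hs]; exact mul_mem (hklein q hq1 hq2) (pow_mem hrR _))
  have hval : ∀ m : K0, (χ : G → ℂ) (S.e m) =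
      if m.right.odd = false then (χ : G → ℂ) 1 else (χ : G → ℂ) (S.e rr) := by
    intro m
    split_ifs with hm
    · exact (hmem _).1 (heven m hm)
    · have h : m * rr⁻¹ ∈ KK := heven _ (by
        rw [SemidirectProduct.mul_right, odd_mul, show (rr⁻¹ : K0).right.odd = true by decide +kernel,
          Bool.eq_true_of_not_eq_false hm]
        rfl)
      have := (hconst (S.e rr) _ (show S.e (m * rr⁻¹) ∈ K from h)).2
      rwa [← map_mul, inv_mul_cancel_right] at this
  have hsum : ∑ m : K0, Z12.toC (vfun 3 m) * conj ((χ : G → ℂ) (S.e m)) = 0 := by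
    refine (Finset.sum_congr rfl fun m _ => by rw [hval m, apply_ite (starRingEnd ℂ), mul_ite]).trans ?_
    rw [Finset.sum_ite, ← Finset.sum_mul, ← Finset.sum_mul, ← Z12.toC_sum, ← Z12.toC_sum,
      vfun_sum_even, Z12.toC_zero, zero_mul, zero_add]
    have htot := congrArg Z12.toC (vfun_sum 3)
    rw [← Finset.sum_filter_add_sum_filter_not _ (fun m : K0 => m.right.odd = false), Z12.toC_add,
      vfun_sum_even, Z12.toC_zero, zero_add, Z12.toC_ofInt] at htot
    rw [htot]
    simp [mone]
  have h1 : classInner (S.W 3) (χ : G → ℂ) = 0 := by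
    rw [W, classInner_indFun _ _ _ (IsIrrCharacter.isClassFunction χ.2), classInner,
      ← S.equiv.toEquiv.sum_comp]
    simp only [MulEquiv.toEquiv_eq_coe, EquivLike.coe_coe, v_equiv, equiv_coe, hsum, mul_zero]
  rw [hχ1] at h1
  exact one_ne_zero h1

/-- The subgroup is the whole group. -/
theorem eq_top : S.H = ⊤ := by
  classical
  haveI := Fintype.ofFinite S.H
  haveI := Fintype.ofFinite (IrrCharacter G)
  obtain ⟨K, hK, hmem⟩ := S.exists_normal
  haveI := Fintype.ofFinite K
  let H' : Subgroup K := S.H.subgroupOf K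
  have hcoe : ∀ h : H', ∃ n, InBlocks n ∧ S.e n = ((h : K) : G) := fun h => by
    obtain ⟨n, hn⟩ : ((h : K) : G) ∈ S.e.range := S.range ▸ h.2
    exact ⟨n, (hmem n).1 (hn ▸ (h : K).2), hn⟩
  choose nn hnn hne using hcoe
  have nn_mul : ∀ a b : H', nn (a * b) = nn a * nn b := fun a b => S.inj (by
    rw [hne, map_mul, hne, hne]; rfl)
  have nn_of : ∀ n, (hn : InBlocks n) →
      nn ⟨⟨S.e n, (hmem n).2 hn⟩, S.e_mem n⟩ = n := fun n _ => S.inj (hne _)
  have hJK : S.J ≤ K := fun j hj => by
    obtain ⟨u, rfl⟩ := S.exists_transl hj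
    exact (hmem _).2 ((by decide +kernel : ∀ u, InBlocks (transl u)) u)
  let q : H' →* BlockThree.Q3 :=
    MonoidHom.mk' (fun h => toBlocks (nn h)) fun a b => by
      rw [nn_mul]; exact toBlocks_mul _ _ (hnn a) (hnn b)
  have hq : Function.Injective q := (injective_iff_map_eq_one q).2 fun h hh => by
    refine Subtype.ext (Subtype.ext ?_)
    rw [← hne, toBlocks_inj _ (hnn h) hh, map_one]
    rfl
  let BS : BlockThree.Setting K :=
    { H := H'
      T := S.J.subgroupOf K
      q := q
      inj := hq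
      even := fun h => toBlocks_even _ (hnn h)
      hasC := fun k => by
        obtain ⟨n, hn, he⟩ := (toBlocks_surj k).1
        exact ⟨⟨⟨S.e n, (hmem n).2 hn⟩, S.e_mem n⟩, (congrArg toBlocks (nn_of n hn)).trans he⟩
      hasE := fun k => by
        obtain ⟨n, hn, he⟩ := (toBlocks_surj k).2
        exact ⟨⟨⟨S.e n, (hmem n).2 hn⟩, S.e_mem n⟩, (congrArg toBlocks (nn_of n hn)).trans he⟩
      le := fun _ hx => S.le hx
      card_T := by rw [Nat.card_congr (Subgroup.subgroupOfEquivOfLe hJK).toEquiv, S.card_J]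
      norm := by
        refine le_antisymm (fun g hg => ?_) (fun g hg => Subgroup.mem_normalizer_iff.2 fun t => ?_)
        · obtain ⟨h1, h2⟩ := S.tdd_mem
          exact S.mem_of_conj h1 h2 ((Subgroup.mem_normalizer_iff.1 hg ⟨S.e tdd, hJK h1⟩).1 h1)
        · refine ⟨fun ht => S.conj_mem_J hg ht, fun ht => ?_⟩
          have := S.conj_mem_J (S.H.inv_mem hg) ht
          show (t : G) ∈ S.J
          simpa [mul_assoc] using this
      cent := fun t ht ht1 x hx => by
        refine S.cent _ ht (fun e => ht1 (Subtype.ext e)) ?_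
        rw [Subgroup.mem_centralizer_singleton_iff] at hx ⊢
        exact congrArg Subtype.val hx }
  have hle : K ≤ S.H := fun x hx => by
    have hT : H' = ⊤ := BS.eq_top
    have : (⟨x, hx⟩ : K) ∈ H' := by rw [hT]; exact Subgroup.mem_top _
    exact this
  obtain ⟨h1, h2⟩ := S.tdd_mem
  refine eq_top_iff.2 fun g _ => S.mem_of_conj h1 h2 ?_
  have hc : g * S.e tdd * g⁻¹ ∈ K := hK.conj_mem _ (hJK h1) g
  obtain ⟨n, hn⟩ : g * S.e tdd * g⁻¹ ∈ S.e.range := S.range ▸ hle hc
  have hin : InBlocks n := (hmem n).1 (hn ▸ hc)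
  have h3 : n ^ 3 = 1 := S.inj (by
    rw [map_pow, hn, conj_pow, S.J_cube h1, mul_one, mul_inv_cancel, map_one])
  have hr : (SemidirectProduct.rightHom n : Mon) ^ 3 = 1 := by rw [← map_pow, h3, map_one]
  rw [SemidirectProduct.rightHom_eq_right, pow_succ, pow_two, hin.2, one_mul] at hr
  exact hn ▸ (S.mem n).2 hr

end Setting

/-- The hypotheses give a setting. -/
theorem exists_setting {G : Type*} [Group G] [Fintype G] (H : Subgroup G)
    (e : ↥H ≃* ↥(Subgroup.closure gens9)) (J : Subgroup G) (hJ : J = (pCore 3 ↥H).map H.subtype)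
    (hC : ∀ j ∈ J, j ≠ 1 → Subgroup.centralizer ({j} : Set G) ≤ H) (hsc : IsStronglyClosed J H) :
    ∃ S : Setting G, S.H = H := by
  let f : K0 ≃* H := ((MonoidHom.ofInjective perm9_injective).trans
    (MulEquiv.subgroupCongr range_perm9)).trans e.symm
  have hcore : ∀ n : K0, f n ∈ pCore 3 ↥H ↔ n.right = 1 := by
    have hle : (SemidirectProduct.inl : V →* K0).range.map f.toMonoidHom ≤ pCore 3 ↥H := by
      refine le_sSup ⟨(by
        rw [SemidirectProduct.range_inl_eq_ker_rightHom]
        exact (MonoidHom.normal_ker _).map _ f.surjective), ?_⟩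
      have hV : IsPGroup 3 V := IsPGroup.of_card (n := 3) (by
        rw [Nat.card_eq_fintype_card]; rfl)
      exact (hV.of_surjective _ (MonoidHom.rangeRestrict_surjective SemidirectProduct.inl)).map _
    intro n
    refine ⟨fun hn => ?_, fun hn => ?_⟩
    · have hge : pCore 3 ↥H ≤ (SemidirectProduct.inl : V →* K0).range.map f.toMonoidHom := by
        refine sSup_le fun N hN x hx => ?_
        obtain ⟨hNn, hNp⟩ := hN
        obtain ⟨m, rfl⟩ := f.surjective x
        refine ⟨m, ?_, rfl⟩
        rw [SemidirectProduct.range_inl_eq_ker_rightHom]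
        show m.right = 1
        by_contra hm
        have hpow : ∀ w, f w ∈ N → w.right ^ 81 = 1 := by
          intro w hw
          obtain ⟨k, hk⟩ := hNp ⟨f w, hw⟩
          have h9 := three_part (n := w) (m := k) (f.injective (by
            rw [map_pow, map_one]; exact congrArg Subtype.val hk))
          have h9' : w.right ^ 9 = 1 := by
            rw [← SemidirectProduct.rightHom_eq_right, ← map_pow, h9, map_one]
          rw [show (81 : ℕ) = 9 * 9 from rfl, pow_mul, h9', one_pow]
        obtain ⟨c, hc⟩ := not_three_normal _ (hpow m hx) hm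
        refine hc ?_
        have h := hpow (m * ((⟨1, c⟩ : K0) * m * (⟨1, c⟩ : K0)⁻¹)) (by
          rw [map_mul, map_mul, map_mul, map_inv]
          exact N.mul_mem hx (hNn.conj_mem _ hx _))
        simpa [SemidirectProduct.mul_right, SemidirectProduct.inv_right] using h
      obtain ⟨m, ⟨v, rfl⟩, hmn⟩ := hge hn
      obtain rfl := f.injective hmn
      rfl
    · exact hle ⟨n, ⟨n.left, SemidirectProduct.ext rfl hn.symm⟩, rfl⟩
  refine ⟨⟨H, J, H.subtype.comp f.toMonoidHom, H.subtype_injective.comp f.injective, ?_, fun n => ?_,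
    hC, hsc.1⟩, rfl⟩
  · rw [MonoidHom.range_comp, MonoidHom.range_eq_top.2 f.surjective, ← MonoidHom.range_eq_map,
      Subgroup.range_subtype]
  · rw [hJ, ← hcore n]
    exact ⟨fun ⟨x, hx, he⟩ => (Subtype.ext he : x = f n) ▸ hx, fun h => ⟨f n, h, rfl⟩⟩

end CfsgLib.OrderDegrees.StrongCore
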