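import Cfsg.Agent.Lib.OrderDegrees.StrongCore.Config

/-!
# The shape of the configuration and the constituent of degree two
-/

set_option autoImplicit false
set_option maxHeartbeats 1600000

namespace CfsgLib.OrderDegrees.StrongCore

open Finset
open CfsgLib.OrderDegrees.NineD8 (adjForm)

variable {ι : Type*} [Fintype ι] [DecidableEq ι]

theorem sq_ne_1029 (n : ℤ) : n ^ 2 ≠ 1029 := by
  intro h
  have h1 : -32 ≤ n := by nlinarith
  have h2 : n ≤ 32 := by nlinarith
  nlinarith

namespace Config

variable (T : Config ι)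

/-- Some constituent of degree two takes its first coordinate from the trivial character. -/
theorem exists_deg_two : ∃ k, T.m 3 k = 1 ∧ T.deg k = 2 ∧ T.A k = T.A T.o := by
  -- the three meeting points
  obtain ⟨P, hP, h0P, hP'⟩ := T.meet 0 3 (by decide) 1 (by decide) (Or.inl rfl) (by decide)
  obtain ⟨A, hA, h0A, hA'⟩ := T.meet 0 2 (by decide) 1 (by decide) (Or.inl rfl) (by decide)
  obtain ⟨F, hF, h2F, hF'⟩ := T.meet 2 3 (by decide) (-1) (by decide) (Or.inr rfl) (by decide)
  rw [one_mul] at h0P h0A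
  rw [neg_one_mul] at h2F
  have hF2 : T.m 2 F ≠ 0 := by omega
  have only : ∀ k, T.m 2 k ≠ 0 → T.m 3 k ≠ 0 → k = F := fun k h2 h3 =>
    by_contra fun e => h2 (hF' k e h3)
  have hPF : P ≠ F := by
    rintro rfl
    have : P = A := by_contra fun e => hP (by rw [← h0P]; exact hA' P e hF2)
    subst this; omega
  have hAF : A ≠ F := by
    rintro rfl
    have : A = P := by_contra fun e => hF2 (by rw [← h0A]; exact hP' A e hF)
    exact hPF this.symm
  have hAP : A ≠ P := fun e => hAF (only A hA (e ▸ hP))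
  obtain ⟨Q, hQ, hQP, hQF, mem3, sum3⟩ := T.exists_third 3 (by decide) hP hF hPF
  obtain ⟨B, hB, hBA, hBF, mem2, sum2⟩ := T.exists_third 2 (by decide) hA hF2 hAF
  have o23 : T.m 2 T.o = 0 ∧ T.m 3 T.o = 0 := ⟨T.m_o 2, T.m_o 3⟩
  have o04 : T.m 0 T.o = 1 ∧ T.m 4 T.o = 1 := ⟨T.m_o 0, T.m_o 4⟩
  have ne2 : ∀ k, T.m 2 k ≠ 0 → T.o ≠ k := fun k hk e => hk (e ▸ o23.1)
  have ne3 : ∀ k, T.m 3 k ≠ 0 → T.o ≠ k := fun k hk e => hk (e ▸ o23.2)
  have hBP : B ≠ P := fun e => hBF (only B hB (e ▸ hP))
  have hBQ : B ≠ Q := fun e => hBF (only B hB (e ▸ hQ))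
  have hAQ : A ≠ Q := fun e => hAF (only A hA (e ▸ hQ))
  have d0o : T.d 0 T.o = 1 := by simp [d, o04.1, T.deg_o]
  have d4o : T.d 4 T.o = 1 := by simp [d, o04.2, T.deg_o]
  have d2F : T.d 2 F = -T.d 3 F := T.d_neg h2F
  have d0P : T.d 0 P = T.d 3 P := T.d_eq h0P
  have d0A : T.d 0 A = T.d 2 A := T.d_eq h0A
  have hp := T.d_ne 3 hP
  have hφ := T.d_ne 3 hF
  have hθ := T.d_ne 3 hQ
  have hα := T.d_ne 2 hA
  have hβ := T.d_ne 2 hB
  -- the horizontal line
  have z0 : T.d 3 P + T.d 3 F + T.d 3 Q = 0 := by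
    have h := sum3 (fun k => T.m 3 k * T.deg k) (fun k e => by simp [e])
    rw [T.deg_sum] at h
    simp only [d]; exact_mod_cast h.symm
  have zsum : ∀ f : ι → ℂ, ∑ k, (T.m 3 k * T.deg k : ℂ) * f k =
      T.d 3 P * f P + T.d 3 F * f F + T.d 3 Q * f Q := by
    intro f
    rw [sum3 (fun k => (T.m 3 k * T.deg k : ℂ) * f k) (fun k e => by simp [e])]
    simp [d]
  have wsum : ∀ f : ι → ℂ, ∑ k, (T.m 2 k * T.deg k : ℂ) * f k =
      T.d 2 A * f A + T.d 2 F * f F + T.d 2 B * f B := by
    intro f
    rw [sum2 (fun k => (T.m 2 k * T.deg k : ℂ) * f k) (fun k e => by simp [e])]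
    simp [d]
  have z1 := T.A_sum 3
  have z2 := T.AA_sum 3
  have z3 := T.B_sum 3
  have z4 := T.BB_sum 3
  have w1 := T.A_sum 2
  have w2 := T.AA_sum 2
  have w3 := T.B_sum 2
  have w4 := T.BB_sum 2
  rw [zsum] at z1 z2 z3 z4
  rw [wsum] at w1 w2 w3 w4
  norm_num [moments] at z2 z4 w2 w4
  have w0 : T.d 2 A + T.d 2 B = T.d 3 F := by
    have h := wsum (fun _ => 1)
    have h' : ∑ k, (T.m 2 k * T.deg k : ℂ) * 1 = 0 := by
      simp only [mul_one]; exact_mod_cast T.deg_sum 2
    rw [h', d2F] at h
    linear_combination -h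
  obtain ⟨eP, eQ⟩ : T.B P - T.B F = 0 ∧ T.B Q - T.B F = 0 :=
    three_point_zero (x := T.d 3 P) (y := T.d 3 Q) hθ hp
      (fun e => hφ (by linear_combination z0 - e)) (by linear_combination z3 - T.B F * z0)
      (by linear_combination z4 - 2 * T.B F * z3 + T.B F ^ 2 * z0)
  obtain ⟨eA, eB⟩ : T.A A - T.A F = 0 ∧ T.A B - T.A F = 0 :=
    three_point_zero (x := T.d 2 A) (y := T.d 2 B) hβ hα
      (fun e => hφ (by linear_combination e - w0)) (by linear_combination w1 - T.A F * (w0 + d2F))
      (by linear_combination w2 - 2 * T.A F * w1 + T.A F ^ 2 * (w0 + d2F))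
  obtain ⟨u, hu_def⟩ : ∃ u, T.A F - T.A P = u := ⟨_, rfl⟩
  obtain ⟨v, hv_def⟩ : ∃ v, T.A F - T.A Q = v := ⟨_, rfl⟩
  obtain ⟨Y, hY_def⟩ : ∃ Y, T.B A - T.B F = Y := ⟨_, rfl⟩
  obtain ⟨Z, hZ_def⟩ : ∃ Z, T.B B - T.B F = Z := ⟨_, rfl⟩
  obtain ⟨a, ha_def⟩ : ∃ a, T.A P - T.A T.o = a := ⟨_, rfl⟩
  obtain ⟨b, hb_def⟩ : ∃ b, T.B P - T.B T.o = b := ⟨_, rfl⟩
  have xA : T.A A - T.A P = u := by linear_combination eA + hu_def
  have yA : T.B A - T.B P = Y := by linear_combination hY_def - eP
  have xB : T.A B - T.A P = u := by linear_combination eB + hu_def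
  have yB : T.B B - T.B P = Z := by linear_combination hZ_def - eP
  have xAQ : T.A A - T.A Q = v := by linear_combination eA + hv_def
  have yAQ : T.B A - T.B Q = Y := by linear_combination hY_def - eQ
  have xBQ : T.A B - T.A Q = v := by linear_combination eB + hv_def
  have yBQ : T.B B - T.B Q = Z := by linear_combination hZ_def - eQ
  have hlin : T.d 3 P * u + T.d 3 Q * v = 0 := by
    rw [← hu_def, ← hv_def]; linear_combination T.A F * z0 - z1
  have hquad : T.d 3 P * u ^ 2 + T.d 3 Q * v ^ 2 = 3 := by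
    rw [← hu_def, ← hv_def]; linear_combination z2 - 2 * T.A F * z1 + T.A F ^ 2 * z0
  have wlin : T.d 2 A * Y + T.d 2 B * Z = 0 := by
    rw [← hY_def, ← hZ_def]; linear_combination w3 - T.B F * (w0 + d2F)
  have wquad : T.d 2 A * Y ^ 2 + T.d 2 B * Z ^ 2 = 3 := by
    rw [← hY_def, ← hZ_def]; linear_combination w4 - 2 * T.B F * w3 + T.B F ^ 2 * (w0 + d2F)
  have hu0 : u ≠ 0 := by
    intro e
    rw [e, mul_zero, zero_add] at hlin
    rw [e, (mul_eq_zero.1 hlin).resolve_left hθ] at hquad
    norm_num at hquad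
  have hv0 : v ≠ 0 := by
    intro e
    rw [e, mul_zero, add_zero] at hlin
    exact hu0 ((mul_eq_zero.1 hlin).resolve_left hp)
  have hh : T.d 3 P * T.d 3 F * u ^ 2 = 3 * (T.d 3 P + T.d 3 F) := by
    linear_combination -(three_point hθ hlin hquad) + (T.d 3 P * u ^ 2 - 3) * z0
  have hhQ : T.d 3 Q * T.d 3 F * v ^ 2 = 3 * (T.d 3 Q + T.d 3 F) := by
    linear_combination -(three_point hp (x := T.d 3 Q) (y := T.d 3 P) (e := v) (f := u) (M := 3)
      (by linear_combination hlin) (by linear_combination hquad)) + (T.d 3 Q * v ^ 2 - 3) * z0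
  have hY : T.d 2 A * T.d 3 F * Y ^ 2 = 3 * T.d 2 B := by
    linear_combination three_point hβ wlin wquad - T.d 2 A * Y ^ 2 * w0
  have hZ : T.d 2 B * T.d 3 F * Z ^ 2 = 3 * T.d 2 A := by
    linear_combination three_point hα (x := T.d 2 B) (y := T.d 2 A) (e := Z) (f := Y) (M := 3)
      (by linear_combination wlin) (by linear_combination wquad) - T.d 2 B * Z ^ 2 * w0
  have hY' : T.d 2 A * T.d 3 F * Y ^ 2 = 3 * (T.d 3 F - T.d 2 A) := by
    linear_combination hY + 3 * w0
  have hZ' : T.d 2 B * T.d 3 F * Z ^ 2 = 3 * (T.d 3 F - T.d 2 B) := by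
    linear_combination hZ + 3 * w0
  -- the first lift
  have hP0 : T.m 0 P ≠ 0 := h0P ▸ hP
  have hA0 : T.m 0 A ≠ 0 := h0A ▸ hA
  obtain ⟨S, hS, hSo, hSP, hSA, -, sum0⟩ := T.exists_fourth 0 (by decide)
    (by omega : T.m 0 T.o ≠ 0) hP0 hA0 (ne3 P hP) (ne2 A hA) hAP.symm
  have v1 := T.quad 0 (by decide) (by omega : T.m 0 T.o ≠ 0) hP0 (ne3 P hP)
  have v2 := (T.form_identities 0 (by decide) hP0 hA0 (by omega : T.m 0 T.o ≠ 0) hAP.symm
    (ne3 P hP).symm (ne2 A hA).symm).1
  have v3 := T.quad 0 (by decide) hP0 hA0 hAP.symm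
  have xoP : T.A T.o - T.A P = -a := by rw [← ha_def]; ring
  have yoP : T.B T.o - T.B P = -b := by rw [← hb_def]; ring
  rw [d0P] at v1 v2 v3
  rw [d0o] at v1
  rw [d0A] at v3
  simp only [form, adjForm, det, ha_def, hb_def, xA, yA, xoP, yoP] at v1 v2 v3
  norm_num [moments] at v1 v2 v3
  have huY : u = 2 * Y := offset_first hp hφ hα hu0 w0 hY hh (by linear_combination v3 / 3)
  have hw := weight_relation hY hh huY
  have h2 : T.d 3 P * (2 * a ^ 2 - 2 * a * b + b ^ 2) = 3 * (T.d 3 P + 1) := by
    linear_combination v1 / 3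
  have h3 : T.d 3 P * (u * (3 * a - b)) = -6 := by
    rw [huY] at v2 ⊢
    linear_combination (-2 / 3 : ℂ) * v2
  have V0 : 1 + T.d 3 P + T.d 2 A + T.d 0 S = 0 := by
    have h := sum0 (fun k => T.m 0 k * T.deg k) (fun k e => by simp [e])
    rw [T.deg_sum, o04.1, T.deg_o] at h
    rw [← d0P, ← d0A]; simp only [d]; exact_mod_cast h.symm
  -- the last lift contains the common constituent of the two lifts of norm three
  obtain ⟨h4F, hF4'⟩ : T.m 4 F = T.m 3 F ∧ ∀ k, k ≠ F → T.m 3 k ≠ 0 → T.m 4 k = 0 := by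
    obtain ⟨L, hL, h4L, hL'⟩ := T.meet 4 3 (by decide) 1 (by decide) (Or.inl rfl) (by decide)
    obtain ⟨K, hK, h4K, hK'⟩ := T.meet 4 2 (by decide) (-1) (by decide) (Or.inr rfl) (by decide)
    rw [one_mul] at h4L
    rw [neg_one_mul] at h4K
    by_cases hLF : L = F
    · subst hLF; exact ⟨h4L, hL'⟩
    exfalso
    have hKF : K ≠ F := by
      rintro rfl
      have := hL' K (Ne.symm hLF) hF
      omega
    have hKL : K ≠ L := fun e => hKF (only K hK (e ▸ hL))
    have hK4 : T.m 4 K ≠ 0 := by omega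
    have hL4 : T.m 4 L ≠ 0 := h4L ▸ hL
    have ho4 : T.m 4 T.o ≠ 0 := by omega
    have d4K := T.d_neg h4K
    have d4L := T.d_eq h4L
    obtain ⟨S', hS', -, -, -, mem4, sum4⟩ := T.exists_fourth 4 (by decide) ho4 hK4 hL4
      (ne2 K hK) (ne3 L hL) hKL
    -- the products with the first lift
    have hov := sum0 (fun k => T.m 0 k * T.m 4 k) (fun k e => by simp [e])
    rw [T.m_gram, o04.1, o04.2, show gram 0 4 = 1 from rfl] at hov
    have deg4 : 1 + T.d 4 K + T.d 4 L + T.d 4 S' = 0 := by
      have h := sum4 (fun k => T.m 4 k * T.deg k) (fun k e => by simp [e])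
      rw [T.deg_sum, o04.2, T.deg_o] at h
      simp only [d]; exact_mod_cast h.symm
    have hS'S : ∀ {e : ℤ}, T.m 0 S * T.m 4 S = e → (e = 1 ∨ e = -1) → S ≠ K → S ≠ L →
        T.d 4 S' = e * T.d 0 S := by
      intro e he hu hSK hSL
      have hS4 : T.m 4 S ≠ 0 := fun e' => by rw [e', mul_zero] at he; omega
      obtain rfl : S = S' := by
        rcases mem4 S hS4 with h | h | h | h
        exacts [absurd h hSo, absurd h hSK, absurd h hSL, h]
      have h2 := T.sq_eq_one hS
      have : T.m 4 S = e * T.m 0 S := by linear_combination T.m 0 S * he - T.m 4 S * h2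
      simp [d, this]; ring
    have wide := T.quad 4 (by decide) hL4 hK4 hKL.symm
    rw [d4K, d4L] at wide
    have bil := (T.form_identities 4 (by decide) hL4 hK4 ho4 hKL.symm (ne3 L hL).symm
      (ne2 K hK).symm).1
    rw [d4L] at bil
    rcases (mem2 K hK).imp Eq.symm (Or.imp Eq.symm Eq.symm) with rfl | rfl | rfl
    · have hB4 : T.m 4 B = 0 := hK' B hBA hB
      rw [d2F] at *
      rcases (mem3 L hL).imp Eq.symm (Or.imp Eq.symm Eq.symm) with rfl | rfl | rfl
      · -- first, first
        simp only [form, adjForm, det, xA, yA, xoP, yoP] at wide bil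
        norm_num [moments] at wide bil
        have hαφ := weight_wide hp hY' hh (by linear_combination wide)
        have hpφ : T.d 3 F = -7 * T.d 3 P := by
          have : T.d 3 F * (T.d 3 F + 7 * T.d 3 P) = 0 := by
            linear_combination (-1 / 2 : ℂ) * hw + ((T.d 3 P + T.d 3 F) / 2 + 2 * T.d 3 P) * hαφ
              - 2 * T.d 3 P * w0
          linear_combination (mul_eq_zero.1 this).resolve_left hφ
        have hq := T.quad 4 (by decide) ho4 hL4 (ne3 P hL)
        rw [d4L, d4o] at hq
        simp only [form, adjForm, det, ha_def, hb_def] at hq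
        norm_num [moments] at hq
        exact wide_first_first hp hu0 h2 h3 (by linear_combination hq / 3) (by
          rw [huY] at bil ⊢; linear_combination (-2 / 3 : ℂ) * bil) hpφ
      · exact hLF rfl
      · -- first, second
        simp only [form, adjForm, det, xAQ, yAQ] at wide
        norm_num [moments] at wide
        have hαφ := weight_wide hθ hY' hhQ (by linear_combination wide)
        have hpφ : T.d 3 F = -7 * T.d 3 P := by
          have : T.d 3 F * (T.d 3 F + 7 * T.d 3 P) = 0 := by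
            linear_combination (-1 / 2 : ℂ) * hw + ((T.d 3 P + T.d 3 F) / 2 + 2 * T.d 3 P) * hαφ
              - 2 * T.d 3 P * w0
          linear_combination (mul_eq_zero.1 this).resolve_left hφ
        have h4P : T.m 4 P = 0 := hL' P hQP.symm hP
        rw [h4P, mul_zero, add_zero, h0A, h4K, mul_neg, T.sq_eq_one hK] at hov
        have e := hS'S (e := 1) (by omega) (Or.inl rfl) hSA
          (fun e => hS (by rw [e]; exact hP' _ hQP hQ))
        rw [d4K, d4L] at deg4; rw [Int.cast_one, one_mul] at e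
        refine hp ?_
        linear_combination (-1 / 23 : ℂ) * (deg4 - V0 - e - z0) - (2 / 23 : ℂ) * hαφ
          + (3 / 23 : ℂ) * hpφ
    · exact hKF rfl
    · rw [d2F] at *
      have hA4 : T.m 4 A = 0 := hK' A hBA.symm hA
      have hpφ : T.d 2 B = -2 * T.d 3 F → 3 * T.d 3 F = -11 * T.d 3 P := by
        intro hβφ
        have : T.d 3 F * (3 * T.d 3 F + 11 * T.d 3 P) = 0 := by
          linear_combination hw - (T.d 3 P + T.d 3 F) * w0 + (5 * T.d 3 P + T.d 3 F) * hβφ
        linear_combination (mul_eq_zero.1 this).resolve_left hφ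
      rcases (mem3 L hL).imp Eq.symm (Or.imp Eq.symm Eq.symm) with rfl | rfl | rfl
      · -- second, first
        simp only [form, adjForm, det, xB, yB] at wide
        norm_num [moments] at wide
        have hβφ := weight_wide hp hZ' hh (by linear_combination wide)
        have h11 := hpφ hβφ
        rw [hA4, mul_zero, add_zero, h4L, h0P, T.sq_eq_one hP] at hov
        have e := hS'S (e := -1) (by omega) (Or.inr rfl)
          (fun e => hS (by rw [e]; exact hA' _ hBA hK)) hSP
        rw [d4K, d4L] at deg4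
        push_cast at e
        have h49 : 49 * T.d 3 P = 6 := by
          linear_combination -3 * (deg4 + V0 - e) + 3 * w0 - 6 * hβφ + 5 * h11
        simp only [d] at h49
        have h49' : 49 * (T.m 3 P * T.deg P) = 6 := by exact_mod_cast h49
        omega
      · exact hLF rfl
      · -- second, second
        simp only [form, adjForm, det, xBQ, yBQ] at wide
        norm_num [moments] at wide
        have hβφ := weight_wide hθ hZ' hhQ (by linear_combination wide)
        have h11 := hpφ hβφ
        have hZu : Z = 3 / 4 * u := by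
          have : T.d 3 F * (3 / 4 * u - Z) = 0 := by
            linear_combination (1 / 2 : ℂ) * wlin + (3 / 4 : ℂ) * T.d 3 F * huY
              - (Z / 2) * hβφ - (Y / 2) * w0 + (Y / 2) * hβφ
          linear_combination -(mul_eq_zero.1 this).resolve_left hφ
        have hvu : v = -3 / 8 * u := by
          have : T.d 3 P * (v + 3 / 8 * u) = 0 := by
            linear_combination (3 / 8 : ℂ) * hlin - (3 / 8 : ℂ) * v * z0 + (v / 8) * h11
          linear_combination (mul_eq_zero.1 this).resolve_left hp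
        have xBo : T.A B - T.A T.o = a + u := by linear_combination xB + ha_def
        have yBo : T.B B - T.B T.o = b + Z := by linear_combination yB + hb_def
        have xQo : T.A Q - T.A T.o = a + u - v := by linear_combination hu_def - hv_def + ha_def
        have yQo : T.B Q - T.B T.o = b := by linear_combination eQ - eP + hb_def
        have hq := T.form_identities 4 (by decide) ho4 hK4 hL4 (ne2 B hK) (ne3 Q hL) hKL
        obtain ⟨hbil, hq⟩ := hq
        rw [d4o, d4K] at hq
        rw [d4o] at hbil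
        simp only [form, adjForm, det, xBo, yBo, xQo, yQo, hZu, hvu] at hq hbil
        norm_num [moments] at hq hbil
        exact wide_second_second (u := u) (a := a) (b := b) hp hu0 h11 hh h2 h3
          (by rw [hβφ] at hq; linear_combination hq) (by linear_combination hbil)
  have hF4 : T.m 4 F ≠ 0 := h4F ▸ hF
  have p1 := T.quad 4 (by decide) (by omega : T.m 4 T.o ≠ 0) hF4 (ne3 F hF)
  rw [d4o, T.d_eq h4F] at p1
  have xFo : T.A F - T.A T.o = a + u := by linear_combination hu_def + ha_def
  have yFo : T.B F - T.B T.o = b := by linear_combination hb_def - eP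
  simp only [form, adjForm, det, xFo, yFo] at p1
  norm_num [moments] at p1
  have hP1 : T.d 3 F * (9 * (a + u) ^ 2 + 3 * b ^ 2) = 27 * (1 + T.d 3 F) := by
    linear_combination p1
  -- the second lift
  obtain ⟨L, hL, h1L, hL'⟩ := T.meet 1 3 (by decide) 1 (by decide) (Or.inl rfl) (by decide)
  obtain ⟨K, hK, h1K, hK'⟩ := T.meet 1 2 (by decide) 1 (by decide) (Or.inl rfl) (by decide)
  rw [one_mul] at h1L h1K
  have hLF : L ≠ F := by
    rintro rfl
    have : L = K := by_contra fun e => hL (by rw [← h1L]; exact hK' L e hF2)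
    subst this; omega
  have hKF : K ≠ F := by
    rintro rfl
    have := hL' K (Ne.symm hLF) hF
    omega
  have hKL : K ≠ L := fun e => hKF (only K hK (e ▸ hL))
  have skew := T.quad 1 (by decide) (h1L ▸ hL : T.m 1 L ≠ 0) (h1K ▸ hK : T.m 1 K ≠ 0) hKL.symm
  rw [T.d_eq h1L, T.d_eq h1K] at skew
  rcases (mem3 L hL).imp Eq.symm (Or.imp Eq.symm Eq.symm) with rfl | rfl | rfl
  · rcases (mem2 K hK).imp Eq.symm (Or.imp Eq.symm Eq.symm) with rfl | rfl | rfl
    · exfalso
      simp only [form, adjForm, det, xA, yA] at skew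
      norm_num [moments] at skew
      have := offset_skew hp hφ hα hu0 hY' hh (by linear_combination skew / 3)
      exact hu0 (by linear_combination (1 / 2 : ℂ) * this + (1 / 2 : ℂ) * huY)
    · exact absurd rfl hKF
    · simp only [form, adjForm, det, xB, yB] at skew
      norm_num [moments] at skew
      have huZ := offset_skew hp hφ hβ hu0 hZ' hh (by linear_combination skew / 3)
      have hY0 : Y ≠ 0 := fun e => hu0 (by rw [huY, e, mul_zero])
      have hab : T.d 2 A = T.d 2 B := by
        have : Y * (T.d 2 A - T.d 2 B) = 0 := by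
          linear_combination wlin + (T.d 2 B / 2) * (huY - huZ)
        linear_combination (mul_eq_zero.1 this).resolve_left hY0
      rcases skew_second_first hp hu0 hα w0 hab hw hh h2 h3 hP1 with ⟨hp2, ha0⟩ | h
      · have hp2' : T.m 3 P * T.deg P = 2 := by simp only [d] at hp2; exact_mod_cast hp2
        have := T.deg_pos P
        refine ⟨P, ?_, ?_, sub_eq_zero.1 (ha_def.trans ha0)⟩
        · rcases T.unit_value 3 P with e | e | e <;> rw [e] at hp2' <;> omega
        · rcases T.unit_value 3 P with e | e | e <;> rw [e] at hp2' <;> omega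
      · exfalso
        simp only [d] at h
        have h' : 3 * (T.m 3 P * T.deg P) = 2 := by exact_mod_cast h
        omega
  · exact absurd rfl hLF
  · exfalso
    rcases (mem2 K hK).imp Eq.symm (Or.imp Eq.symm Eq.symm) with rfl | rfl | rfl
    · simp only [form, adjForm, det, xAQ, yAQ] at skew
      norm_num [moments] at skew
      have hvY := offset_skew hθ hφ hα hv0 hY' hhQ (by linear_combination skew / 3)
      have hφp : T.d 3 F = -2 * T.d 3 P := by
        have : u * (T.d 3 F + 2 * T.d 3 P) = 0 := by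
          linear_combination hlin - T.d 3 Q * hvY - T.d 3 Q * huY + u * z0
        linear_combination (mul_eq_zero.1 this).resolve_left hu0
      have key := skew_first_second hp hu0 hφp hh h2 h3 hP1
      simp only [d] at key
      exact sq_ne_1029 (34 - 3 * (T.m 3 P * T.deg P)) (by exact_mod_cast key)
    · exact hKF rfl
    · simp only [form, adjForm, det, xBQ, yBQ] at skew
      norm_num [moments] at skew
      have hvZ := offset_skew hθ hφ hβ hv0 hZ' hhQ (by linear_combination skew / 3)
      have h1 : T.d 2 A * u = T.d 2 B * v := by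
        linear_combination 2 * wlin + T.d 2 A * huY - T.d 2 B * hvZ
      have h2' : u * (3 * T.d 2 B * T.d 3 P) = 0 := by
        linear_combination (T.d 3 P + T.d 3 F) * h1 - u * hw + T.d 2 B * v * z0 - T.d 2 B * hlin
      exact mul_ne_zero hu0 (mul_ne_zero (mul_ne_zero three_ne_zero hβ) hp) h2'

end Config

end CfsgLib.OrderDegrees.StrongCore
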