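import Cfsg.Agent.Lib.OrderDegrees.StrongCore.Model
import Cfsg.Agent.Lib.Coherence.Virtual
import Cfsg.Agent.Lib.CharTheory.Inflation
import Mathlib.LinearAlgebra.Trace
import Mathlib.Analysis.Complex.Basic
import Mathlib.Data.Real.Sqrt

/-!
# Monomial characters and the complex values of the five generalized characters
-/

set_option autoImplicit false

open scoped ComplexConjugate
open Cfsg CfsgLib.CharTheory CfsgLib.Coherence

namespace CfsgLib.OrderDegrees.StrongCore

/-- A primitive cube root of unity. -/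
noncomputable def omega : ℂ := -(1 / 2) + (Real.sqrt 3 / 2 : ℝ) * Complex.I

theorem omega_sq : omega * omega = -1 - omega := by
  have h : ((Real.sqrt 3 : ℝ) : ℂ) * (Real.sqrt 3 : ℝ) = 3 := by
    rw [← Complex.ofReal_mul, Real.mul_self_sqrt (by norm_num)]
    norm_num
  unfold omega
  push_cast
  linear_combination (Complex.I * Complex.I / 4) * h + (3 / 4 : ℂ) * Complex.I_mul_I

theorem conj_omega : conj omega = -1 - omega := by
  unfold omega
  rw [map_add, map_neg, map_mul, Complex.conj_ofReal, Complex.conj_I, map_div₀, map_one, map_ofNat]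
  ring

namespace Z12

/-- The complex number. -/
noncomputable def toC (x : Z12) : ℂ := x.a + x.b * omega + Complex.I * (x.c + x.d * omega)

theorem toC_zero : toC 0 = 0 := by
  show toC ⟨0, 0, 0, 0⟩ = 0
  simp [toC]

theorem toC_add (x y : Z12) : toC (x + y) = toC x + toC y := by
  show toC ⟨x.a + y.a, x.b + y.b, x.c + y.c, x.d + y.d⟩ = _
  simp only [toC]
  push_cast
  ring

theorem toC_sub (x y : Z12) : toC (x - y) = toC x - toC y := by
  show toC ⟨x.a - y.a, x.b - y.b, x.c - y.c, x.d - y.d⟩ = _
  simp only [toC]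
  push_cast
  ring

/-- As an additive map. -/
noncomputable def toCHom : Z12 →+ ℂ where
  toFun := toC
  map_zero' := toC_zero
  map_add' := toC_add

theorem toC_sum {α : Type*} (s : Finset α) (f : α → Z12) :
    toC (∑ i ∈ s, f i) = ∑ i ∈ s, toC (f i) := map_sum toCHom f s

theorem toC_mul (x y : Z12) : toC (x * y) = toC x * toC y := by
  show toC ⟨eA x.a x.b y.a y.b - eA x.c x.d y.c y.d, eB x.a x.b y.a y.b - eB x.c x.d y.c y.d,
    eA x.a x.b y.c y.d + eA x.c x.d y.a y.b, eB x.a x.b y.c y.d + eB x.c x.d y.a y.b⟩ = _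
  simp only [toC, eA, eB]
  push_cast
  linear_combination
    (-((x.b : ℂ) * y.b) - Complex.I * ((x.b : ℂ) * y.d + (x.d : ℂ) * y.b) + (x.d : ℂ) * y.d) * omega_sq
      - ((x.c : ℂ) + x.d * omega) * ((y.c : ℂ) + y.d * omega) * Complex.I_mul_I

theorem toC_bar (x : Z12) : toC x.bar = conj (toC x) := by
  simp only [toC, bar, map_add, map_mul, map_intCast, Complex.conj_I, conj_omega]
  push_cast
  ring

theorem toC_ofInt (n : ℤ) : toC (ofInt n) = n := by simp [toC, ofInt]

/-- The complex root of unity. -/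
noncomputable def root (k : ZMod 12) : ℂ := toC (zeta k)

theorem root_add (k l : ZMod 12) : root (k + l) = root k * root l := by
  rw [root, zeta_add, toC_mul]; rfl

theorem root_zero : root 0 = 1 := by
  show toC ⟨1, 0, 0, 0⟩ = 1
  simp [toC]

end Z12

open Z12

/-- The character of a monomial representation. -/
theorem isCharacter_monomial {X : Type*} [Group X] {n : ℕ} (σ : X → Fin n → Fin n)
    (σ_one : ∀ i, σ 1 i = i) (σ_mul : ∀ g h i, σ (g * h) i = σ g (σ h i))
    (ph : X → Fin n → ZMod 12) (ph_mul : ∀ g h i, ph (g * h) i = ph g (σ h i) + ph h i) :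
    IsCharacter X (fun g => ∑ i, if σ g i = i then root (ph g i) else 0) := by
  classical
  have σ_inv : ∀ g i, σ g (σ g⁻¹ i) = i := fun g i => by rw [← σ_mul, mul_inv_cancel, σ_one]
  have σ_inv' : ∀ g i, σ g⁻¹ (σ g i) = i := fun g i => by rw [← σ_mul, inv_mul_cancel, σ_one]
  have ph_one : ∀ i, ph 1 i = 0 := fun i => by simpa [σ_one] using ph_mul 1 1 i
  let ρ : Representation ℂ X (Fin n → ℂ) :=
    { toFun := fun g =>
        { toFun := fun f i => root (ph g (σ g⁻¹ i)) * f (σ g⁻¹ i)
          map_add' := fun f f' => funext fun i => by simp [mul_add]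
          map_smul' := fun c f => funext fun i => by simp [mul_left_comm] }
      map_one' := LinearMap.ext fun f => funext fun i => by simp [σ_one, ph_one, root_zero]
      map_mul' := fun g h => LinearMap.ext fun f => funext fun i => by
        show root (ph (g * h) (σ (g * h)⁻¹ i)) * f (σ (g * h)⁻¹ i) =
          root (ph g (σ g⁻¹ i)) * (root (ph h (σ h⁻¹ (σ g⁻¹ i))) * f (σ h⁻¹ (σ g⁻¹ i)))
        rw [mul_inv_rev, σ_mul, ph_mul, σ_inv, root_add, mul_assoc] }
  refine ⟨n, ρ, funext fun g => ?_⟩
  show LinearMap.trace ℂ (Fin n → ℂ) (ρ g) = _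
  rw [LinearMap.trace_eq_matrix_trace ℂ (Pi.basisFun ℂ (Fin n)), Matrix.trace]
  refine Finset.sum_congr rfl fun i _ => ?_
  rw [Matrix.diag_apply, LinearMap.toMatrix_apply, Pi.basisFun_repr, Pi.basisFun_apply]
  show root (ph g (σ g⁻¹ i)) * (Pi.single i (1 : ℂ) : Fin n → ℂ) (σ g⁻¹ i) = _
  by_cases h : σ g i = i
  · have h' : σ g⁻¹ i = i := by
      have := σ_inv' g i
      rwa [h] at this
    simp [h, h']
  · have h' : σ g⁻¹ i ≠ i := fun e => h (by
      have := σ_inv g i
      rwa [e] at this)
    simp [h, Pi.single_eq_of_ne h']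

theorem isCharacter_chi6 (m : Fin 3) : IsCharacter K0 (fun n : K0 => toC (chi6 m n)) := by
  have h := isCharacter_monomial (fun (g : K0) i => sig6 g.right i) sig6_one
    (fun g h i => by simp [sig6_mul]) (ph6 m) (ph6_mul m)
  have e : (fun n : K0 => toC (chi6 m n)) =
      fun g => ∑ i, if sig6 g.right i = i then root (ph6 m g i) else 0 := by
    funext n
    simp only [chi6, toC_sum, apply_ite toC, toC_zero, root]
  exact e ▸ h

theorem isCharacter_chi8 (m : Fin 2) : IsCharacter K0 (fun n : K0 => toC (chi8 m n)) := by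
  have h := isCharacter_monomial (fun (g : K0) i => sig8 g.right i) sig8_one
    (fun g h i => by simp [sig8_mul]) (ph8 m) (ph8_mul m)
  have e : (fun n : K0 => toC (chi8 m n)) =
      fun g => ∑ i, if sig8 g.right i = i then root (ph8 m g i) else 0 := by
    funext n
    simp only [chi8, toC_sum, apply_ite toC, toC_zero, root]
  exact e ▸ h

/-- The five functions are generalized characters. -/
theorem isGeneralizedCharacter_vfun (i : Fin 5) :
    IsGeneralizedCharacter K0 (fun n : K0 => toC (vfun i n)) := by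
  have h6 : ∀ m, IsGeneralizedCharacter K0 (fun n : K0 => toC (dl6 m n)) := fun m => by
    refine ⟨fun n => toC (chi6 m (proj n)), fun n => toC (chi6 m n),
      isCharacter_comp (isCharacter_chi6 m) proj, isCharacter_chi6 m, ?_⟩
    funext n
    simp [dl6, toC_sub]
  have h8 : ∀ m, IsGeneralizedCharacter K0 (fun n : K0 => toC (dl8 m n)) := fun m => by
    refine ⟨fun n => toC (chi8 m (proj n)), fun n => toC (chi8 m n),
      isCharacter_comp (isCharacter_chi8 m) proj, isCharacter_chi8 m, ?_⟩
    funext n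
    simp [dl8, toC_sub]
  have hd : ∀ m, IsGeneralizedCharacter K0 (fun n : K0 => toC (dl8 m n - dl6 2 n)) := fun m => by
    have := isGeneralizedCharacter_add (h8 m) (isGeneralizedCharacter_neg (h6 2))
    have e : (fun n : K0 => toC (dl8 m n - dl6 2 n)) =
        (fun n : K0 => toC (dl8 m n)) + -(fun n : K0 => toC (dl6 2 n)) := by
      funext n
      simp [toC_sub, sub_eq_add_neg]
    exact e ▸ this
  fin_cases i
  exacts [h6 0, h6 1, h6 2, hd 1, hd 0]

end CfsgLib.OrderDegrees.StrongCore
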