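import Cfsg.Agent.Lib.OrderDegrees.StrongCore.Facts
import Cfsg.Agent.Lib.OrderDegrees.StrongCore.Extra
import Cfsg.Agent.Lib.OrderDegrees.StrongCore.Values
import Cfsg.Agent.Lib.OrderDegrees.StrongCore.Shape
import Cfsg.Agent.Lib.OrderDegrees.InvolutionPairs
import Cfsg.Prelude.Def_TwoFusion

/-!
# Lifts from a subgroup `3³ : S₄` containing the centralisers of its three-core
-/

set_option autoImplicit false
set_option linter.style.haveILetI false
set_option linter.unusedSectionVars false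

open scoped ComplexConjugate
open Cfsg CfsgLib.CharTheory CfsgLib.Coherence CfsgLib.Frobenius

namespace CfsgLib.OrderDegrees.StrongCore

/-- A translation. -/
def transl (u : Vec) : K0 := ⟨Multiplicative.ofAdd u, 1⟩

theorem transl_of_right {n : K0} (h : n.right = 1) : n = transl n.left.toAdd :=
  SemidirectProduct.ext (by simp [transl]) h

theorem transl_ne_one {u : Vec} (h : u ≠ 0) : transl u ≠ 1 := fun e =>
  h (by simpa [transl] using congrArg SemidirectProduct.left e)

theorem conj_transl (r : Mon) (u : Vec) :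
    (⟨1, r⟩ : K0) * transl u * (⟨1, r⟩ : K0)⁻¹ = transl (act r u) := by
  show (SemidirectProduct.inr r : K0) * SemidirectProduct.inl (Multiplicative.ofAdd u) *
    (SemidirectProduct.inr r : K0)⁻¹ = SemidirectProduct.inl (aut r (Multiplicative.ofAdd u))
  rw [← map_inv, SemidirectProduct.inl_aut]

theorem transl_cube : ∀ u : Vec, transl u ^ 3 = 1 := by decide +kernel

set_option synthInstance.maxSize 2000 in
theorem special_cube : ∀ (n : K0) (k : Fin 5), Special n → (n ^ k.val) ^ 3 = 1 →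
    (n ^ k.val).right = 1 := by decide +kernel

/-- What the argument needs from the group. -/
structure Setting (G : Type*) [Group G] where
  /-- the subgroup -/
  H : Subgroup G
  /-- its three-core -/
  J : Subgroup G
  /-- the identification with the model -/
  e : K0 →* G
  inj : Function.Injective e
  range : e.range = H
  mem : ∀ n : K0, e n ∈ J ↔ n.right = 1
  cent : ∀ j ∈ J, j ≠ 1 → Subgroup.centralizer ({j} : Set G) ≤ H
  le : J ≤ H

namespace Setting

variable {G : Type*} [Group G] [Fintype G] (S : Setting G)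

theorem e_mem (n : K0) : S.e n ∈ S.H := S.range ▸ ⟨n, rfl⟩

/-- The identification. -/
noncomputable def equiv : K0 ≃* S.H :=
  (MonoidHom.ofInjective S.inj).trans (MulEquiv.subgroupCongr S.range)

theorem equiv_coe (n : K0) : (S.equiv n : G) = S.e n := rfl

theorem card_H : Nat.card S.H = 648 := by
  rw [← Nat.card_congr S.equiv.toEquiv, Nat.card_eq_fintype_card, card_translations.2]

theorem exists_transl {j : G} (hj : j ∈ S.J) : ∃ u, S.e (transl u) = j := by
  obtain ⟨n, rfl⟩ : j ∈ S.e.range := S.range ▸ S.le hj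
  exact ⟨n.left.toAdd, by rw [← transl_of_right ((S.mem n).1 hj)]⟩

theorem card_centralizer {u : Vec} (hu : u ≠ 0) :
    Nat.card (Subgroup.centralizer ({S.e (transl u)} : Set G)) = 27 * stabCard u := by
  classical
  have ht : S.e (transl u) ∈ S.J := (S.mem _).2 rfl
  have hne : S.e (transl u) ≠ 1 := fun e => transl_ne_one hu (S.inj (e.trans (map_one _).symm))
  rw [← card_cent u, ← Fintype.card_coe, ← Nat.card_eq_fintype_card]
  symm
  refine Nat.card_congr (Equiv.ofBijective (fun n =>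
    ⟨S.e n.1, Subgroup.mem_centralizer_singleton_iff.2 (by
      rw [← map_mul, ← map_mul, show (n : K0) * transl u = transl u * (n : K0) from
        (Finset.mem_filter.1 n.2).2])⟩) ⟨fun a b h => Subtype.ext (S.inj (congrArg Subtype.val h)),
    fun c => ?_⟩)
  obtain ⟨n, hn⟩ : (c : G) ∈ S.e.range := S.range ▸ S.cent _ ht hne c.2
  have hc := Subgroup.mem_centralizer_singleton_iff.1 c.2
  rw [← hn, ← map_mul, ← map_mul] at hc
  exact ⟨⟨n, Finset.mem_filter.2 ⟨Finset.mem_univ _, S.inj hc⟩⟩, Subtype.ext hn⟩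

/-- An element conjugating a non-trivial element of the core into the core lies in the subgroup. -/
theorem mem_of_conj {x g : G} (hg : g ∈ S.J) (hg1 : g ≠ 1) (hx : x * g * x⁻¹ ∈ S.J) : x ∈ S.H := by
  classical
  obtain ⟨u, rfl⟩ := S.exists_transl hg
  obtain ⟨w, hw⟩ := S.exists_transl hx
  have hu : u ≠ 0 := fun e => hg1 (by rw [e]; exact (congrArg S.e (by rfl : transl 0 = 1)).trans (map_one _))
  have hw0 : w ≠ 0 := by
    rintro rfl
    rw [show transl 0 = 1 from rfl, map_one] at hw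
    exact hg1 (conj_eq_one_iff.1 hw.symm)
  have hmap : (Subgroup.centralizer ({S.e (transl u)} : Set G)).map (MulAut.conj x).toMonoidHom =
      Subgroup.centralizer ({S.e (transl w)} : Set G) := by
    ext y
    rw [Subgroup.mem_map_equiv, Subgroup.mem_centralizer_singleton_iff,
      Subgroup.mem_centralizer_singleton_iff, hw, MulAut.conj_symm_apply]
    constructor
    · intro h
      calc y * (x * S.e (transl u) * x⁻¹) = x * (x⁻¹ * y * x * S.e (transl u)) * x⁻¹ := by group
        _ = x * (S.e (transl u) * (x⁻¹ * y * x)) * x⁻¹ := by rw [h]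
        _ = x * S.e (transl u) * x⁻¹ * y := by group
    · intro h
      calc x⁻¹ * y * x * S.e (transl u) = x⁻¹ * (y * (x * S.e (transl u) * x⁻¹)) * x := by group
        _ = x⁻¹ * (x * S.e (transl u) * x⁻¹ * y) * x := by rw [h]
        _ = S.e (transl u) * (x⁻¹ * y * x) := by group
  have hstab : stabCard u = stabCard w := by
    have h := Nat.card_congr ((Subgroup.centralizer ({S.e (transl u)} : Set G)).equivMapOfInjective
      (MulAut.conj x).toMonoidHom (MulAut.conj x).injective).toEquiv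
    rw [hmap, S.card_centralizer hu, S.card_centralizer hw0] at h
    omega
  obtain ⟨r, hr⟩ := same_orbit u w hu hw0 hstab
  set c := S.e ⟨1, r⟩
  have hcu : c * S.e (transl u) * c⁻¹ = x * S.e (transl u) * x⁻¹ := by
    rw [← hw, ← hr, ← conj_transl r u, map_mul, map_mul, map_inv]
  have hcx : c⁻¹ * x ∈ S.H := by
    refine S.cent _ hg hg1 (Subgroup.mem_centralizer_singleton_iff.2 ?_)
    calc c⁻¹ * x * S.e (transl u) = c⁻¹ * (x * S.e (transl u) * x⁻¹) * x := by group
      _ = c⁻¹ * (c * S.e (transl u) * c⁻¹) * x := by rw [hcu]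
      _ = S.e (transl u) * (c⁻¹ * x) := by group
  have := S.H.mul_mem (S.e_mem ⟨1, r⟩) hcx
  rwa [mul_inv_cancel_left] at this

/-- The virtual characters of the subgroup. -/
noncomputable def v (i : Fin 5) (h : S.H) : ℂ := Z12.toC (vfun i (S.equiv.symm h))

theorem v_equiv (i : Fin 5) (n : K0) : S.v i (S.equiv n) = Z12.toC (vfun i n) := by simp [v]

theorem v_gen (i : Fin 5) : IsGeneralizedCharacter S.H (S.v i) :=
  isGeneralizedCharacter_comp (isGeneralizedCharacter_vfun i) S.equiv.symm.toMonoidHom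

/-- The support of the virtual characters. -/
def supp : Set G := {g | ∃ n : K0, Special n ∧ S.e n = g}

theorem v_ne_zero {i : Fin 5} {h : S.H} (hv : S.v i h ≠ 0) : (h : G) ∈ S.supp := by
  obtain ⟨n, rfl⟩ := S.equiv.surjective h
  rw [v_equiv] at hv
  refine ⟨n, ?_, rfl⟩
  by_contra hn
  exact hv (by rw [vfun_eq_zero i n hn, Z12.toC_zero])

theorem v_supp (i : Fin 5) (h : S.H) (hh : (h : G) ∉ S.supp) : S.v i h = 0 := by
  by_contra hv
  exact hh (S.v_ne_zero hv)

theorem v_one (i : Fin 5) : S.v i 1 = 0 := by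
  rw [← map_one S.equiv, v_equiv, vfun_eq_zero i 1 (involution_not_special 1 (one_mul 1)),
    Z12.toC_zero]

theorem supp_pow {g : G} (hg : g ∈ S.supp) : ∃ k : Fin 5, g ^ k.val ∈ S.J ∧ g ^ k.val ≠ 1 := by
  obtain ⟨n, ⟨k, hk1, hk2⟩, rfl⟩ := hg
  refine ⟨k, ?_, ?_⟩ <;> rw [← map_pow]
  · exact (S.mem _).2 hk1
  · exact fun e => hk2 (S.inj (e.trans (map_one _).symm))

theorem supp_le {g : G} (hg : g ∈ S.supp) : g ∈ S.H := by
  obtain ⟨n, -, rfl⟩ := hg
  exact S.e_mem n

theorem supp_cube {g : G} (hg : g ∈ S.supp) (k : Fin 5) (h : (g ^ k.val) ^ 3 = 1) :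
    g ^ k.val ∈ S.J := by
  obtain ⟨n, hn, rfl⟩ := hg
  rw [← map_pow, ← map_pow] at h
  rw [← map_pow]
  exact (S.mem _).2 (special_cube n k hn (S.inj (h.trans (map_one _).symm)))

theorem J_cube {g : G} (hg : g ∈ S.J) : g ^ 3 = 1 := by
  obtain ⟨u, rfl⟩ := S.exists_transl hg
  rw [← map_pow, transl_cube, map_one]

theorem ti (x : G) (hx : x ∉ S.H) (s : G) (hs : s ∈ S.supp) (hsx : x⁻¹ * s * x ∈ S.supp) :
    s = 1 := by
  exfalso
  obtain ⟨k, h1, h2⟩ := S.supp_pow hs
  refine hx ?_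
  have := S.mem_of_conj (x := x⁻¹) h1 h2 (by
    have e : (x⁻¹ * s * x) ^ k.val = x⁻¹ * s ^ k.val * x⁻¹⁻¹ := by rw [← conj_pow, inv_inv]
    refine e ▸ S.supp_cube hsx k ?_
    rw [e, conj_pow, S.J_cube h1, mul_one, mul_inv_cancel])
  simpa using S.H.inv_mem this

theorem pairs_mem (i : Fin 5) (x y : G) (hx : x * x = 1) (hy : y * y = 1) (h : S.H)
    (hv : S.v i h ≠ 0) (he : x * y = h) : x ∈ S.H := by
  obtain ⟨k, h1, h2⟩ := S.supp_pow (S.v_ne_zero hv)
  refine S.mem_of_conj h1 h2 ?_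
  have hxi : x⁻¹ = x := inv_eq_self hx
  have hyi : y⁻¹ = y := inv_eq_self hy
  have e : x * (x * y) ^ k.val * x⁻¹ = ((x * y) ^ k.val)⁻¹ := by
    rw [← conj_pow, ← inv_pow, mul_inv_rev, hxi, hyi, ← mul_assoc x x y, hx, one_mul]
  rw [← he, e, he]
  exact S.J.inv_mem h1

variable [Fintype S.H]

theorem inner_v (i j : Fin 5) : classInner (S.v i) (S.v j) = (gram i j : ℂ) := by
  rw [classInner, ← S.equiv.toEquiv.sum_comp, S.card_H]
  simp only [MulEquiv.toEquiv_eq_coe, EquivLike.coe_coe, v_equiv, ← Z12.toC_bar, ← Z12.toC_mul,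
    ← Z12.toC_sum, vfun_inner, Z12.toC_ofInt]
  push_cast
  ring

/-- The lifts. -/
noncomputable def W (i : Fin 5) : G → ℂ := indFun S.H (S.v i)

theorem W_gen (i : Fin 5) : IsGeneralizedCharacter G (S.W i) :=
  isGeneralizedCharacter_indFun _ _ (S.v_gen i)

theorem inner_W (i j : Fin 5) : classInner (S.W i) (S.W j) = (gram i j : ℂ) := by
  rw [W, W, classInner_indFun_indFun_of_ti S.H S.supp S.ti _ _
    (IsGeneralizedCharacter.isClassFunction (S.v_gen j)) (S.v_supp i) (S.v_supp j) (S.v_one j),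
    inner_v]

theorem inner_W_one (i : Fin 5) : classInner (S.W i) (trivIrr G : G → ℂ) = mone i := by
  rw [W, classInner_indFun _ _ _ (IsIrrCharacter.isClassFunction (trivIrr G).2), classInner,
    ← S.equiv.toEquiv.sum_comp, S.card_H]
  simp only [MulEquiv.toEquiv_eq_coe, EquivLike.coe_coe, v_equiv, trivIrr_apply, map_one, mul_one,
    ← Z12.toC_sum, vfun_sum, Z12.toC_ofInt]
  push_cast
  ring

theorem W_involution (i : Fin 5) {a : G} (ha : a * a = 1) : S.W i a = 0 := by
  rw [W, indFun, Finset.sum_eq_zero, mul_zero]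
  intro x _
  by_contra hne
  have hm : x⁻¹ * a * x ∈ S.H := by
    by_contra hm; exact hne (extendByZero_of_not_mem S.H _ hm)
  rw [extendByZero_of_mem S.H _ hm] at hne
  obtain ⟨n, hn, he⟩ := S.v_ne_zero hne
  refine involution_not_special n (S.inj ?_) hn
  rw [map_mul, map_one, he]
  show x⁻¹ * a * x * (x⁻¹ * a * x) = 1
  rw [show x⁻¹ * a * x * (x⁻¹ * a * x) = x⁻¹ * (a * a) * x by group, ha]
  simp

variable [Fintype (IrrCharacter G)]

/-- The coefficients of the lifts. -/
noncomputable def coeff (i : Fin 5) (χ : IrrCharacter G) : ℤ :=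
  (exists_classInner_eq_int (S.W_gen i) (IsIrrCharacter.isGeneralizedCharacter χ.2)).choose

theorem coeff_spec (i : Fin 5) (χ : IrrCharacter G) :
    classInner (S.W i) (χ : G → ℂ) = (S.coeff i χ : ℂ) :=
  (exists_classInner_eq_int (S.W_gen i) (IsIrrCharacter.isGeneralizedCharacter χ.2)).choose_spec

theorem W_eq (i : Fin 5) : S.W i = ∑ χ : IrrCharacter G, (S.coeff i χ : ℂ) • (χ : G → ℂ) := by
  conv_lhs => rw [eq_sum_classInner (IsGeneralizedCharacter.isClassFunction (S.W_gen i))]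
  simp only [coeff_spec]

theorem sum_coeff (i : Fin 5) (g : G) :
    ∑ χ : IrrCharacter G, (S.coeff i χ : ℂ) * (χ : G → ℂ) g = S.W i g := by
  conv_rhs => rw [S.W_eq i]
  simp [Finset.sum_apply]

theorem gram_coeff (i j : Fin 5) : ∑ χ, S.coeff i χ * S.coeff j χ = gram i j := by
  have h := S.inner_W i j
  rw [S.W_eq i, S.W_eq j, classInner_generalized_sum] at h
  exact_mod_cast h

omit [Fintype S.H] [Fintype (IrrCharacter G)] in
/-- The two classes of involutions are not fused. -/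
theorem not_isConj_rep : ¬ IsConj (S.e dd) (S.e rr) := by
  haveI := Fact.mk Nat.prime_three
  intro h
  obtain ⟨c, hc⟩ := isConj_iff.1 h
  set C := Subgroup.centralizer ({S.e rr} : Set G)
  obtain ⟨hd1, hd2, hd3⟩ := tr_facts false
  obtain ⟨hr1, hr2, hr3⟩ := tr_facts true
  simp only [tr, rep] at hd1 hd2 hd3 hr1 hr2 hr3
  have htJ : S.e trr ∈ S.J := (S.mem _).2 hr1
  have hdJ : S.e tdd ∈ S.J := (S.mem _).2 hd1
  have ht1 : S.e trr ≠ 1 := fun e => hr2 (S.inj (e.trans (map_one _).symm))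
  have hdd1 : S.e tdd ≠ 1 := fun e => hd2 (S.inj (e.trans (map_one _).symm))
  have hord : ∀ n : K0, n.right = 1 → (S.e n) ^ 3 = 1 := fun n hn => by
    rw [← map_pow, transl_of_right hn, transl_cube, map_one]
  have htC : S.e trr ∈ C := by
    rw [Subgroup.mem_centralizer_singleton_iff, ← map_mul, ← map_mul, hr3]
  have huC : c * S.e tdd * c⁻¹ ∈ C := by
    rw [Subgroup.mem_centralizer_singleton_iff, ← hc, conj_mul, conj_mul, ← map_mul, ← map_mul, hd3]
  have hpg : ∀ z : C, (z : G) ^ 3 = 1 → IsPGroup 3 (Subgroup.zpowers z) := by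
    intro z hz
    obtain ⟨j, -, hj⟩ := (Nat.dvd_prime_pow Nat.prime_three (i := orderOf z) (m := 1)).1
      (by rw [pow_one]; exact orderOf_dvd_of_pow_eq_one (Subtype.ext (by simpa using hz)))
    exact IsPGroup.of_card (n := j) (by rw [Nat.card_zpowers, hj])
  obtain ⟨Qw, hQw⟩ := (hpg ⟨_, htC⟩ (hord _ hr1)).exists_le_sylow
  have htQ : (⟨S.e trr, htC⟩ : C) ∈ (Qw : Subgroup C) := hQw (Subgroup.mem_zpowers _)
  -- the Sylow subgroup is generated by the translation
  have small : ∀ z : C, z ∈ (Qw : Subgroup C) → (z : G) * S.e trr = S.e trr * (z : G) →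
      (z : G) = 1 ∨ (z : G) = S.e trr ∨ (z : G) = (S.e trr)⁻¹ := by
    intro z hz hzc
    obtain ⟨n, hn⟩ : (z : G) ∈ S.e.range := S.range ▸ S.cent _ htJ ht1
      (Subgroup.mem_centralizer_singleton_iff.2 hzc)
    have hz3 := Qw.2 ⟨z, hz⟩
    obtain ⟨m, hm⟩ := hz3
    have hm' : (z : G) ^ 3 ^ m = 1 := by simpa using congrArg (fun w : (Qw : Subgroup C) => ((w : C) : G)) hm
    have h9 : n ^ 9 = 1 := three_part (S.inj (by rw [map_pow, hn, hm', map_one]) : n ^ 3 ^ m = 1)
    have hnr : n * rr = rr * n := S.inj (by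
      rw [map_mul, map_mul, hn]; exact Subgroup.mem_centralizer_singleton_iff.1 z.2)
    have hnt : n * trr = trr * n := S.inj (by rw [map_mul, map_mul, hn]; exact hzc)
    rcases cent_tr true n hnr hnt h9 with e | e | e
    · left; rw [← hn, e, map_one]
    · right; left; rw [← hn, e]; rfl
    · right; right; rw [← hn, e, map_inv]; rfl
  have hall : ∀ z : C, z ∈ (Qw : Subgroup C) →
      (z : G) = 1 ∨ (z : G) = S.e trr ∨ (z : G) = (S.e trr)⁻¹ := by
    have hnt : Nontrivial (Qw : Subgroup C) :=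
      ⟨⟨⟨_, htQ⟩, 1, fun e => ht1 (congrArg (fun w : (Qw : Subgroup C) => ((w : C) : G)) e)⟩⟩
    haveI := Qw.2.center_nontrivial
    obtain ⟨z, hz⟩ := exists_ne (1 : Subgroup.center (Qw : Subgroup C))
    have hzc : ∀ p : (Qw : Subgroup C), ((z : (Qw : Subgroup C)) : C) * (p : C) =
        (p : C) * ((z : (Qw : Subgroup C)) : C) := fun p =>
      congrArg Subtype.val (Subgroup.mem_center_iff.1 z.2 p).symm
    intro p hp
    refine small p hp ?_
    have h1 := congrArg Subtype.val (hzc ⟨p, hp⟩)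
    have h2 := congrArg Subtype.val (hzc ⟨_, htQ⟩)
    simp only [Subgroup.coe_mul] at h1 h2
    rcases small _ (z : (Qw : Subgroup C)).2 h2 with e | e | e
    · exact absurd (Subtype.ext (Subtype.ext (Subtype.ext e))) hz
    · rw [e] at h1; exact h1.symm
    · rw [e] at h1
      calc (p : G) * S.e trr = S.e trr * ((S.e trr)⁻¹ * (p : G)) * S.e trr := by group
        _ = S.e trr * ((p : G) * (S.e trr)⁻¹) * S.e trr := by rw [h1]
        _ = S.e trr * (p : G) := by group
  obtain ⟨Qu, hQu⟩ := (hpg ⟨_, huC⟩ (by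
    show (c * S.e tdd * c⁻¹) ^ 3 = 1
    rw [conj_pow, hord _ hd1]; group)).exists_le_sylow
  obtain ⟨d, hd⟩ := MulAction.exists_smul_eq C Qu Qw
  have hmem : d * ⟨c * S.e tdd * c⁻¹, huC⟩ * d⁻¹ ∈ (Qw : Subgroup C) := by
    rw [← hd]; exact ⟨⟨c * S.e tdd * c⁻¹, huC⟩, hQu (Subgroup.mem_zpowers _), rfl⟩
  have h3 := hall _ hmem
  simp only [Subgroup.coe_mul, Subgroup.coe_inv] at h3
  rw [show (d : G) * (c * S.e tdd * c⁻¹) * (d : G)⁻¹ =
    ((d : G) * c) * S.e tdd * ((d : G) * c)⁻¹ by group] at h3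
  have hy : (d : G) * c ∈ S.H := by
    refine S.mem_of_conj hdJ hdd1 ?_
    rcases h3 with e | e | e <;> rw [e]
    · exact S.J.one_mem
    · exact htJ
    · exact S.J.inv_mem htJ
  obtain ⟨n, hn⟩ : (d : G) * c ∈ S.e.range := S.range ▸ hy
  rw [← hn, ← map_inv, ← map_mul, ← map_mul, ← map_inv, ← map_one S.e] at h3
  obtain ⟨hne1, hne2⟩ := tr_not_conj n
  rcases h3 with e | e | e
  · exact hd2 (conj_eq_one_iff.1 (S.inj e))
  · exact hne1 (S.inj e)
  · exact hne2 (S.inj e)

omit [Fintype S.H] [Fintype (IrrCharacter G)] in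
theorem isConj_rep_iff (k : Bool) (x : K0) :
    IsConj (S.e (rep k)) (S.e x) ↔ (x * x = 1 ∧ x ≠ 1) ∧ cls x = k := by
  have hr : S.e (rep k) * S.e (rep k) = 1 := by rw [← map_mul, (rep_sq k).1, map_one]
  constructor
  · intro h
    have hx : x * x = 1 ∧ x ≠ 1 := by
      refine ⟨S.inj ?_, ?_⟩
      · rw [map_mul, map_one]; exact mul_self_eq_one_of_isConj hr h
      · rintro rfl
        rw [map_one] at h
        exact (rep_sq k).2 (S.inj ((isConj_one_left.1 h).trans (map_one _).symm))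
    obtain ⟨c, hc⟩ := isConj_rep x hx.1 hx.2
    have h' : IsConj (S.e (rep k)) (S.e (rep (cls x))) := h.trans (isConj_iff.2 ⟨(S.e c)⁻¹, by
      conv_lhs => rw [← hc]
      simp [map_mul, map_inv, mul_assoc]⟩)
    refine ⟨hx, ?_⟩
    revert h'
    generalize cls x = l
    intro h'
    cases k <;> cases l
    · rfl
    · exact absurd h' S.not_isConj_rep
    · exact absurd h'.symm S.not_isConj_rep
    · rfl
  · rintro ⟨hx, rfl⟩
    obtain ⟨c, hc⟩ := isConj_rep x hx.1 hx.2
    exact isConj_iff.2 ⟨S.e c, by rw [← map_inv, ← map_mul, ← map_mul, hc]⟩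

/-- Pairs of involutions, in the model. -/
theorem sum_pairs (i : Fin 5) (k l : Bool) :
    ∑ χ : IrrCharacter G, (S.coeff i χ : ℂ) *
        ((χ : G → ℂ) (S.e (rep k)) * (χ : G → ℂ) (S.e (rep l)) / (χ : G → ℂ) 1) =
      (Nat.card (Subgroup.centralizer ({S.e (rep k)} : Set G)) : ℂ) *
          (Nat.card (Subgroup.centralizer ({S.e (rep l)} : Set G)) : ℂ) / ((Nat.card G : ℂ) * 648) *
        Z12.toC (pairSum i k l) := by
  classical
  have hsq : ∀ k, S.e (rep k) * S.e (rep k) = 1 := fun k => by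
    rw [← map_mul, (rep_sq k).1, map_one]
  have h := sum_indFun_involutions S.H (S.e (rep k)) (S.e (rep l)) (hsq k) (hsq l) (S.v i) (S.pairs_mem i)
  simp only [← W.eq_def, coeff_spec] at h
  rw [h, S.card_H, Nat.cast_ofNat]
  congr 1
  rw [pairSum, ← S.equiv.toEquiv.sum_comp, invs, invs]
  simp only [Z12.toC_sum, Finset.sum_filter]
  refine Finset.sum_congr rfl fun x _ => ?_
  rw [← S.equiv.toEquiv.sum_comp]
  simp only [MulEquiv.toEquiv_eq_coe, EquivLike.coe_coe, equiv_coe, ← map_mul, v_equiv,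
    S.isConj_rep_iff]
  by_cases hx : x * x = 1 ∧ x ≠ 1 ∧ cls x = k
  · rw [if_pos hx, Z12.toC_sum]
    refine Finset.sum_congr rfl fun y _ => ?_
    by_cases hy : y * y = 1 ∧ y ≠ 1 ∧ cls y = l
    · rw [if_pos hy, if_pos ⟨⟨⟨hx.1, hx.2.1⟩, hx.2.2⟩, ⟨⟨hy.1, hy.2.1⟩, hy.2.2⟩⟩]
    · rw [if_neg hy, if_neg (fun h => hy ⟨h.2.1.1, h.2.1.2, h.2.2⟩), Z12.toC_zero]
  · rw [if_neg hx, Z12.toC_zero]
    exact Finset.sum_eq_zero fun y _ => if_neg fun h => hx ⟨h.1.1.1, h.1.1.2, h.1.2⟩

/-- An irreducible character of degree two with the double sign change in its kernel. -/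
theorem exists_deg_two : ∃ χ : IrrCharacter G, classInner (S.W 3) (χ : G → ℂ) = 1 ∧
    (χ : G → ℂ) 1 = 2 ∧ (χ : G → ℂ) (S.e dd) = (χ : G → ℂ) 1 := by
  classical
  obtain ⟨s, hs⟩ := IsAlgClosed.exists_eq_mul_self (Nat.card G : ℂ)
  have hG : (Nat.card G : ℂ) ≠ 0 := by simp
  have hs0 : s ≠ 0 := fun e => hG (by rw [hs, e, zero_mul])
  have hd : ∀ χ : IrrCharacter G, ((charDegree (χ : G → ℂ) : ℤ) : ℂ) = (χ : G → ℂ) 1 := fun χ => by
    rw [Int.cast_natCast]; exact (BrauerCharacters.charDegree_spec χ).1.symm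
  have h10 : ∀ χ : IrrCharacter G, (χ : G → ℂ) 1 ≠ 0 := fun χ => apply_one_ne_zero_of_isIrr χ.2
  set c : Bool → ℂ := fun k => (Nat.card (Subgroup.centralizer ({S.e (rep k)} : Set G)) : ℂ) with hc
  have hc0 : ∀ k, c k ≠ 0 := fun k => by simp [hc]
  have hsq : ∀ k, S.e (rep k) * S.e (rep k) = 1 := fun k => by
    rw [← map_mul, (rep_sq k).1, map_one]
  have first : ∀ (k : Bool) (i : Fin 5),
      ∑ χ : IrrCharacter G, ((S.coeff i χ : ℂ) * ((charDegree (χ : G → ℂ) : ℤ) : ℂ)) *
        (s / c k * (χ : G → ℂ) (S.e (rep k)) / (χ : G → ℂ) 1) = 0 := by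
    intro k i
    rw [Finset.sum_congr rfl fun χ _ => show ((S.coeff i χ : ℂ) * ((charDegree (χ : G → ℂ) : ℤ) : ℂ)) *
        (s / c k * (χ : G → ℂ) (S.e (rep k)) / (χ : G → ℂ) 1) =
        s / c k * ((S.coeff i χ : ℂ) * (χ : G → ℂ) (S.e (rep k))) by
      rw [hd]; field_simp [h10 χ], ← Finset.mul_sum, sum_coeff, W_involution _ i (hsq k), mul_zero]
  have second : ∀ (k l : Bool) (i : Fin 5),
      ∑ χ : IrrCharacter G, ((S.coeff i χ : ℂ) * ((charDegree (χ : G → ℂ) : ℤ) : ℂ)) *
        (s / c k * (χ : G → ℂ) (S.e (rep k)) / (χ : G → ℂ) 1) *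
        (s / c l * (χ : G → ℂ) (S.e (rep l)) / (χ : G → ℂ) 1) = Z12.toC (pairSum i k l) / 648 := by
    intro k l i
    have h1 := hc0 k
    have h2 := hc0 l
    rw [Finset.sum_congr rfl fun χ _ => show ((S.coeff i χ : ℂ) * ((charDegree (χ : G → ℂ) : ℤ) : ℂ)) *
        (s / c k * (χ : G → ℂ) (S.e (rep k)) / (χ : G → ℂ) 1) *
        (s / c l * (χ : G → ℂ) (S.e (rep l)) / (χ : G → ℂ) 1) =
        (s * s / (c k * c l)) * ((S.coeff i χ : ℂ) *
          ((χ : G → ℂ) (S.e (rep k)) * (χ : G → ℂ) (S.e (rep l)) / (χ : G → ℂ) 1)) by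
      rw [hd]; field_simp [h10 χ], ← Finset.mul_sum, S.sum_pairs i k l, ← hs]
    simp only [hc] at h1 h2 ⊢
    field_simp
  have mom : ∀ (i : Fin 5) (k l : Bool) (M : ℤ), pairSum i k l = Z12.ofInt (648 * M) →
      Z12.toC (pairSum i k l) / 648 = (M : ℂ) := fun i k l M h => by
    rw [h, Z12.toC_ofInt]; push_cast; ring
  let T : Config (IrrCharacter G) :=
    { m := S.coeff
      deg := fun χ => (charDegree (χ : G → ℂ) : ℤ)
      o := trivIrr G
      A := fun χ => s / c false * (χ : G → ℂ) (S.e (rep false)) / (χ : G → ℂ) 1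
      B := fun χ => s / c true * (χ : G → ℂ) (S.e (rep true)) / (χ : G → ℂ) 1
      deg_pos := fun χ => by exact_mod_cast (BrauerCharacters.charDegree_spec χ).2.1
      deg_o := by
        have := hd (trivIrr G)
        rw [trivIrr_apply] at this
        exact_mod_cast this
      m_gram := fun i j => S.gram_coeff i j
      m_o := fun i => by
        have := (S.coeff_spec i (trivIrr G)).symm.trans (S.inner_W_one i)
        exact_mod_cast this
      deg_sum := fun i => by
        have h := (S.sum_coeff i 1).trans (S.W_involution i (one_mul 1))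
        simp only [← hd] at h
        exact_mod_cast h
      A_sum := first false
      B_sum := first true
      AA_sum := fun i => by
        have h := (second false false i).trans (mom _ _ _ _ (pairSum_eq i).1)
        simpa only [pow_two, ← mul_assoc] using h
      AB_sum := fun i => (second false true i).trans (mom _ _ _ _ (pairSum_eq i).2.1)
      BB_sum := fun i => by
        have h := (second true true i).trans (mom _ _ _ _ (pairSum_eq i).2.2)
        simpa only [pow_two, ← mul_assoc] using h }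
  obtain ⟨χ, hm, hdeg, hA⟩ := T.exists_deg_two
  refine ⟨χ, ?_, ?_, ?_⟩
  · rw [coeff_spec, show S.coeff 3 χ = 1 from hm, Int.cast_one]
  · rw [← hd, show (charDegree (χ : G → ℂ) : ℤ) = 2 from hdeg]; norm_num
  · have hA' : s / c false * (χ : G → ℂ) (S.e dd) / (χ : G → ℂ) 1 =
        s / c false * (trivIrr G : G → ℂ) (S.e dd) / (trivIrr G : G → ℂ) 1 := hA
    rw [trivIrr_apply, trivIrr_apply] at hA'
    have := hc0 false
    have := h10 χ
    field_simp at hA'
    exact hA'

end Setting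

end CfsgLib.OrderDegrees.StrongCore
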